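import Mathlib
import Cfsg.Prelude.Def_TwoFusion
import Cfsg.Prelude.Def_Transfer
import Cfsg.Agent.S0058

/-!
# Groups with a centralizer of type `q^{1+2} : SL(2,q)`, `q = 3^m`: the abstract set-up

`Setup C Z Q P M D t` : `C` is the centralizer of every non-identity element of its centre `Z`, with all the internal
properties of the centralizer of a 3-central element of `PSp(4, 3^m)` that are used (`Q = O₃(C)`, `P` a Sylow
3-subgroup, `M` its largest elementary abelian subgroup, `D ≅ SL(2,q)` a complement of `Q`, `t` its involution).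

Under `N_G(M) ≤ N_G(P)` the subgroup `Z` is strongly closed in `P`; this file collects the fusion-theoretic
consequences.
-/

set_option autoImplicit false

namespace Cfsg.Agent.H334.Symp

open Subgroup

variable {G : Type*} [Group G]

/-- The internal properties of the centralizer of a 3-central element of `PSp(4, 3^m)`. -/
structure Setup (C Z Q P M D : Subgroup G) (t : G) : Prop where
  memZ : ∀ z, z ∈ Z ↔ z ∈ C ∧ ∀ c ∈ C, c * z = z * c
  cent : ∀ z ∈ Z, z ≠ 1 → ∀ g : G, g ∈ C ↔ g * z = z * g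
  Z3 : ∀ z ∈ Z, z ^ 3 = 1
  cardZ : 9 ∣ Nat.card Z
  QC : Q ≤ C
  ZQ : Z ≤ Q
  Qn : ∀ c ∈ C, ∀ v ∈ Q, c * v * c⁻¹ ∈ Q
  Q3 : ∀ v ∈ Q, v ^ 3 = 1
  Qmax : ∀ N : Subgroup G, N ≤ C → (∀ c ∈ C, ∀ n ∈ N, c * n * c⁻¹ ∈ N) → IsPGroup 3 N → N ≤ Q
  Qcent : ∀ c ∈ C, (∀ v ∈ Q, c * v = v * c) → c ∈ Z
  Qconj : ∀ v ∈ Q, v ∉ Z → ∀ w ∈ Q, w ∉ Z → ∃ c ∈ C, c * v * c⁻¹ = w
  Qcomm : ∀ v ∈ Q, v ∉ Z → ∃ w ∈ Q, v * w * v⁻¹ * w⁻¹ ≠ 1 ∧ v * w * v⁻¹ * w⁻¹ ∈ Z
  QP : Q ≤ P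
  PC : P ≤ C
  P3 : IsPGroup 3 P
  Psyl : ¬ 3 ∣ P.relIndex C
  Pcent : ∀ x ∈ P, (∀ y ∈ P, x * y = y * x) → x ∈ Z
  MP : M ≤ P
  ZM : Z ≤ M
  Mab : ∀ x ∈ M, ∀ y ∈ M, x * y = y * x
  M3 : ∀ x ∈ M, x ^ 3 = 1
  Muniq : ∀ M' : Subgroup G, M' ≤ P → (∀ x ∈ M', ∀ y ∈ M', x * y = y * x) → (∀ x ∈ M', x ^ 3 = 1) →
    Nat.card M' = Nat.card M → M' = M
  elts : ∀ x ∈ P, x ^ 3 = 1 → x ∈ M ∨ x ∈ Q
  QM : ∃ v ∈ Q, v ∈ M ∧ v ∉ Z
  centQM : ∀ v ∈ Q, v ∈ M → v ∉ Z → ∀ c ∈ C, c * v = v * c → c ∈ M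
  centPM : ∀ v ∈ M, v ∉ Z → ∀ c ∈ P, c * v = v * c → c ∈ M
  actM : ∀ u ∈ P, (∀ m ∈ M, u * m * u⁻¹ * m⁻¹ ∈ Z) → u ∈ M
  commPQM : ∀ u ∈ P, ∀ v ∈ Q, v ∈ M → u * v * u⁻¹ * v⁻¹ ∈ Z
  tC : t ∈ C
  t2 : orderOf t = 2
  DC : D ≤ C
  Dt : ∀ d ∈ D, d * t = t * d
  centt : ∀ c ∈ C, c * t = t * c → ∃ z ∈ Z, ∃ d ∈ D, c = z * d
  DZ : D ⊓ Z = ⊥
  Dperf : ⁅D, D⁆ = D
  Dqs : ∀ E : Subgroup G, E ≤ D → (∀ d ∈ D, ∀ e ∈ E, d * e * d⁻¹ ∈ E) →
    E = D ∨ ∀ e ∈ E, ∀ d ∈ D, d * e = e * d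
  D3 : ∃ R : Subgroup G, R ≤ D ∧ ¬ 3 ∣ R.relIndex D ∧ R ≠ ⊥ ∧ (∀ x ∈ R, ∀ y ∈ R, x * y = y * x) ∧
    ∀ x ∈ R, x ^ 3 = 1
  Dcen : ∀ e ∈ D, (∀ d ∈ D, d * e = e * d) → e ^ 3 = 1 → e = 1
  tinv : ∀ v ∈ Q, v ∉ Z → t * v * t⁻¹ * v⁻¹ ∉ Z
  invol : ∀ s ∈ C, ∀ s' ∈ C, orderOf s = 2 → orderOf s' = 2 → s * s' = s' * s → s = s'

/-! ### General lemmas -/

theorem isPGroup_of_pow {p : ℕ} {A : Subgroup G} (h : ∀ x ∈ A, x ^ p = 1) : IsPGroup p A := by
  intro x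
  refine ⟨1, ?_⟩
  apply Subtype.ext
  simpa using h x x.2

/-- a `p`-subgroup containing a Sylow subgroup is in it -/
theorem le_of_syl [Finite G] {p : ℕ} [hp : Fact p.Prime] {P C U : Subgroup G} (hPU : P ≤ U)
    (hUC : U ≤ C) (hU : IsPGroup p U) (h : ¬ p ∣ P.relIndex C) : U ≤ P := by
  have h1 : P.relIndex U ∣ P.relIndex C := by
    rw [← relIndex_mul_relIndex P U C hPU hUC]
    exact dvd_mul_right _ _
  obtain ⟨n, hn⟩ := IsPGroup.iff_card.1 hU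
  have h2 : P.relIndex U ∣ p ^ n := by
    rw [← hn]
    exact relIndex_dvd_card P U
  obtain ⟨k, -, hk⟩ := (Nat.dvd_prime_pow hp.out).1 h2
  rw [hk] at h1
  rcases Nat.eq_zero_or_pos k with rfl | hk0
  · rw [pow_zero] at hk
    exact relIndex_eq_one.1 hk
  · exact absurd ((dvd_pow_self p hk0.ne').trans h1) h

/-- a `p`-subgroup of `C` is conjugate in `C` into `P`, if `P ≤ C` has index prime to `p` -/
theorem exists_conj_le [Finite G] {p : ℕ} [hp : Fact p.Prime] {P C T : Subgroup G}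
    (hP : IsPGroup p P) (h : ¬ p ∣ P.relIndex C) (hTC : T ≤ C) (hT : IsPGroup p T) :
    ∃ c ∈ C, ∀ x ∈ T, c * x * c⁻¹ ∈ P := by
  have hP' : IsPGroup p (P.subgroupOf C) := hP.comap_of_injective C.subtype C.subtype_injective
  let S : Sylow p C := hP'.toSylow (by rwa [← relIndex] )
  have hS : (S : Subgroup C) = P.subgroupOf C := rfl
  obtain ⟨T', hT'⟩ := (hT.comap_of_injective C.subtype C.subtype_injective).exists_le_sylow
  obtain ⟨c, hc⟩ := MulAction.exists_smul_eq C T' S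
  refine ⟨c, c.2, fun x hx => ?_⟩
  have h1 : (⟨x, hTC hx⟩ : C) ∈ T' := hT' (by exact hx)
  have h2 : c * (⟨x, hTC hx⟩ : C) * c⁻¹ ∈ (S : Subgroup C) := by
    rw [← hc]
    exact Subgroup.smul_mem_pointwise_smul _ (MulAut.conj c) (T' : Subgroup C) h1
  rw [hS] at h2
  exact h2

/-- conjugate of a subgroup: membership -/
theorem mem_map_conj {A : Subgroup G} {g y : G} :
    y ∈ A.map (MulAut.conj g).toMonoidHom ↔ g⁻¹ * y * g ∈ A := by
  constructor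
  · rintro ⟨x, hx, rfl⟩
    have : g⁻¹ * ((MulAut.conj g).toMonoidHom x) * g = x := by
      simp [MulAut.conj_apply]; group
    rwa [this]
  · intro h
    refine ⟨_, h, ?_⟩
    simp [MulAut.conj_apply]; group

theorem conj_mem_map {A : Subgroup G} {g x : G} (hx : x ∈ A) :
    g * x * g⁻¹ ∈ A.map (MulAut.conj g).toMonoidHom := ⟨x, hx, rfl⟩

theorem card_map_conj {A : Subgroup G} {g : G} :
    Nat.card (A.map (MulAut.conj g).toMonoidHom) = Nat.card A :=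
  Nat.card_congr (A.equivMapOfInjective _ (MulAut.conj g).injective).symm.toEquiv

theorem mem_normalizer_of_conj_le [Finite G] {A : Subgroup G} {g : G} (h : ∀ x ∈ A, g * x * g⁻¹ ∈ A) :
    g ∈ normalizer (A : Set G) := by
  have h1 : A.map (MulAut.conj g).toMonoidHom = A := by
    apply Subgroup.eq_of_le_of_card_ge
    · rintro _ ⟨x, hx, rfl⟩
      exact h x hx
    · rw [card_map_conj]
  rw [mem_normalizer_iff]
  intro x
  refine ⟨fun hx => h x hx, fun hx => ?_⟩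
  have h2 : g * x * g⁻¹ ∈ A.map (MulAut.conj g).toMonoidHom := by rw [h1]; exact hx
  rw [mem_map_conj] at h2
  have h3 : g⁻¹ * (g * x * g⁻¹) * g = x := by group
  rwa [h3] at h2

/-- the fixed points of a `p`-group `T` on a nontrivial `p`-group `Z` which it normalises -/
theorem exists_fixed [Finite G] {p : ℕ} [hp : Fact p.Prime] {T Z : Subgroup G} (hT : IsPGroup p T)
    (hZ : p ∣ Nat.card Z) (hn : ∀ x ∈ T, ∀ z ∈ Z, x * z * x⁻¹ ∈ Z) :
    ∃ z ∈ Z, z ≠ 1 ∧ ∀ x ∈ T, x * z = z * x := by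
  let act : MulAction T Z :=
    { smul := fun x z => ⟨x * z * (x : G)⁻¹, hn x x.2 z z.2⟩
      one_smul := fun z => Subtype.ext (by change (1 : G) * z * (1 : G)⁻¹ = z; simp)
      mul_smul := fun x y z => Subtype.ext (by
        change ((x : G) * y) * z * ((x : G) * y)⁻¹ = x * (y * z * (y : G)⁻¹) * (x : G)⁻¹
        group) }
  have h1 : (1 : Z) ∈ MulAction.fixedPoints T Z := by
    intro x
    apply Subtype.ext
    change (x : G) * 1 * (x : G)⁻¹ = 1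
    simp
  obtain ⟨b, hb, hb1⟩ := hT.exists_fixed_point_of_prime_dvd_card_of_fixed_point Z hZ h1
  refine ⟨b, b.2, fun h => hb1 (Subtype.ext h.symm), fun x hx => ?_⟩
  have h2 : (x : G) * b * (x : G)⁻¹ = b := congrArg Subtype.val (hb ⟨x, hx⟩)
  calc x * (b : G) = x * b * x⁻¹ * x := by group
    _ = b * x := by rw [h2]

namespace Setup

variable {C Z Q P M D : Subgroup G} {t : G}

theorem zC (S : Setup C Z Q P M D t) {z : G} (hz : z ∈ Z) : z ∈ C := ((S.memZ z).1 hz).1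

theorem ZC (S : Setup C Z Q P M D t) : Z ≤ C := fun _ hz => S.zC hz

theorem zcomm (S : Setup C Z Q P M D t) {z c : G} (hz : z ∈ Z) (hc : c ∈ C) : c * z = z * c :=
  ((S.memZ z).1 hz).2 c hc

theorem exists_mem_ne [Finite G] (S : Setup C Z Q P M D t) : ∃ z ∈ Z, z ≠ 1 := by
  by_contra hcon
  have h1 : Z = ⊥ := by
    rw [Subgroup.eq_bot_iff_forall]
    intro z hz
    by_contra h
    exact hcon ⟨z, hz, h⟩
  have h2 := S.cardZ
  rw [h1, Subgroup.card_bot] at h2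
  norm_num at h2

theorem Zp (S : Setup C Z Q P M D t) : IsPGroup 3 Z := isPGroup_of_pow S.Z3

theorem Mp (S : Setup C Z Q P M D t) : IsPGroup 3 M := isPGroup_of_pow S.M3

theorem Qp (S : Setup C Z Q P M D t) : IsPGroup 3 Q := isPGroup_of_pow S.Q3

theorem MC (S : Setup C Z Q P M D t) : M ≤ C := S.MP.trans S.PC

/-- if an element of `Z#` is conjugate into `Z` by `g`, then `g` normalises `C` -/
theorem conjC (S : Setup C Z Q P M D t) {g z : G} (hz : z ∈ Z) (hz1 : z ≠ 1) (h : g * z * g⁻¹ ∈ Z) (c : G) :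
    c ∈ C ↔ g * c * g⁻¹ ∈ C := by
  have h1 : g * z * g⁻¹ ≠ 1 := by
    intro h2
    apply hz1
    calc z = g⁻¹ * (g * z * g⁻¹) * g := by group
      _ = 1 := by rw [h2]; group
  rw [S.cent z hz hz1, S.cent _ h h1]
  constructor
  · intro h2
    calc g * c * g⁻¹ * (g * z * g⁻¹) = g * (c * z) * g⁻¹ := by group
      _ = g * (z * c) * g⁻¹ := by rw [h2]
      _ = g * z * g⁻¹ * (g * c * g⁻¹) := by group
  · intro h2
    calc c * z = g⁻¹ * (g * c * g⁻¹ * (g * z * g⁻¹)) * g := by group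
      _ = g⁻¹ * (g * z * g⁻¹ * (g * c * g⁻¹)) * g := by rw [h2]
      _ = z * c := by group

theorem conjZ (S : Setup C Z Q P M D t) {g : G} (h : ∀ c, c ∈ C ↔ g * c * g⁻¹ ∈ C) (z : G) :
    z ∈ Z ↔ g * z * g⁻¹ ∈ Z := by
  rw [S.memZ, S.memZ, ← h]
  refine and_congr_right fun _ => ?_
  constructor
  · intro h2 c hc
    have h3 : g⁻¹ * c * g ∈ C := by
      rw [h]
      have : g * (g⁻¹ * c * g) * g⁻¹ = c := by group
      rwa [this]
    have h4 := h2 _ h3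
    calc c * (g * z * g⁻¹) = g * ((g⁻¹ * c * g) * z) * g⁻¹ := by group
      _ = g * (z * (g⁻¹ * c * g)) * g⁻¹ := by rw [h4]
      _ = g * z * g⁻¹ * c := by group
  · intro h2 c hc
    have h4 := h2 _ ((h c).1 hc)
    calc c * z = g⁻¹ * (g * c * g⁻¹ * (g * z * g⁻¹)) * g := by group
      _ = g⁻¹ * (g * z * g⁻¹ * (g * c * g⁻¹)) * g := by rw [h4]
      _ = z * c := by group

theorem mem_H_iff [Finite G] (S : Setup C Z Q P M D t) {g : G} :
    g ∈ normalizer (Z : Set G) ↔ ∀ c, c ∈ C ↔ g * c * g⁻¹ ∈ C := by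
  constructor
  · intro h
    obtain ⟨z, hz, hz1⟩ := S.exists_mem_ne
    rw [mem_normalizer_iff] at h
    exact S.conjC hz hz1 ((h z).1 hz)
  · intro h
    rw [mem_normalizer_iff]
    exact S.conjZ h

theorem C_le_H (S : Setup C Z Q P M D t) : C ≤ normalizer (Z : Set G) := by
  intro c hc
  rw [mem_normalizer_iff]
  intro z
  constructor
  · intro hz
    rw [S.zcomm hz hc, mul_inv_cancel_right]
    exact hz
  · intro hz
    have h1 := S.zcomm hz (C.inv_mem hc)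
    have h2 : z = c⁻¹ * (c * z * c⁻¹) * c := by group
    rw [h2, h1, inv_mul_cancel_right]
    exact hz

/-- 3-subgroups normalising `Z` are in `C` -/
theorem le_C_of_le_H [Finite G] (S : Setup C Z Q P M D t) {T : Subgroup G} (hT : IsPGroup 3 T)
    (h : T ≤ normalizer (Z : Set G)) : T ≤ C := by
  have : Fact (Nat.Prime 3) := ⟨Nat.prime_three⟩
  obtain ⟨z, hz, hz1, hzT⟩ := exists_fixed hT ((show 3 ∣ 9 by norm_num).trans S.cardZ)
    (fun x hx z hz => ((mem_normalizer_iff.1 (h hx)) z).1 hz)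
  intro x hx
  rw [S.cent z hz hz1]
  exact hzT x hx

theorem mem_C_of_mem_H [Finite G] (S : Setup C Z Q P M D t) {x : G} (hx : x ^ 3 = 1)
    (h : x ∈ normalizer (Z : Set G)) : x ∈ C := by
  have h1 : IsPGroup 3 (zpowers x) := by
    refine isPGroup_of_pow fun y hy => ?_
    obtain ⟨k, rfl⟩ := mem_zpowers_iff.1 hy
    rw [← zpow_natCast, ← zpow_mul, mul_comm, zpow_mul, zpow_natCast, hx, one_zpow]
  exact S.le_C_of_le_H h1 (by rwa [zpowers_le]) (mem_zpowers x)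

/-- `P` is a Sylow subgroup of `G` -/
theorem exists_sylow [Finite G] (S : Setup C Z Q P M D t) : ∃ T : Sylow 3 G, (T : Subgroup G) = P := by
  have : Fact (Nat.Prime 3) := ⟨Nat.prime_three⟩
  obtain ⟨T, hT⟩ := S.P3.exists_le_sylow
  refine ⟨T, ?_⟩
  have key : ∀ x ∈ (T : Subgroup G), x ∈ C → x ∈ P := by
    intro x hx hxC
    have h1 : (T : Subgroup G) ⊓ C ≤ P :=
      le_of_syl (le_inf hT S.PC) inf_le_right (T.isPGroup'.to_le inf_le_left) S.Psyl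
    exact h1 ⟨hx, hxC⟩
  apply le_antisymm _ hT
  -- the centre of `T`
  obtain ⟨z, hz, hz1⟩ := S.exists_mem_ne
  have hzP : z ∈ P := S.MP (S.ZM hz)
  have hnt : Nontrivial (T : Subgroup G) := ⟨⟨⟨z, hT hzP⟩, 1, fun h => hz1 (congrArg Subtype.val h)⟩⟩
  have h2 := T.isPGroup'.center_nontrivial
  obtain ⟨x, hx1⟩ := exists_ne (1 : center (T : Subgroup G))
  have hxc : ∀ y ∈ (T : Subgroup G), y * (x : T).1 = (x : T).1 * y := by
    intro y hy
    have h3 := (mem_center_iff.1 x.2) ⟨y, hy⟩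
    exact congrArg Subtype.val h3
  have hxC : ((x : T) : G) ∈ C := by
    rw [S.cent z hz hz1]
    exact (hxc z (hT hzP)).symm
  have hxP := key _ (x : T).2 hxC
  have hxZ : ((x : T) : G) ∈ Z := S.Pcent _ hxP fun y hy => (hxc y (hT hy)).symm
  have hx1' : ((x : T) : G) ≠ 1 := fun h => hx1 (Subtype.ext (Subtype.ext h))
  intro y hy
  refine key y hy ?_
  rw [S.cent _ hxZ hx1']
  exact hxc y hy

/-- every 3-subgroup is conjugate into `P` -/
theorem conjP [Finite G] (S : Setup C Z Q P M D t) {T : Subgroup G} (hT : IsPGroup 3 T) :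
    ∃ g : G, ∀ x ∈ T, g * x * g⁻¹ ∈ P := by
  have : Fact (Nat.Prime 3) := ⟨Nat.prime_three⟩
  obtain ⟨U, hU⟩ := S.exists_sylow
  obtain ⟨T', hT'⟩ := hT.exists_le_sylow
  obtain ⟨g, hg⟩ := MulAction.exists_smul_eq G T' U
  refine ⟨g, fun x hx => ?_⟩
  rw [← hU, ← hg]
  exact Subgroup.smul_mem_pointwise_smul _ (MulAut.conj g) (T' : Subgroup G) (hT' hx)

/-- 3-subgroups of `C` are conjugate in `C` into `P` -/
theorem conjPC [Finite G] (S : Setup C Z Q P M D t) {T : Subgroup G} (hTC : T ≤ C) (hT : IsPGroup 3 T) :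
    ∃ c ∈ C, ∀ x ∈ T, c * x * c⁻¹ ∈ P := by
  have : Fact (Nat.Prime 3) := ⟨Nat.prime_three⟩
  exact exists_conj_le S.P3 S.Psyl hTC hT

/-- if `g M g⁻¹ ≤ P` then `g` normalises `M` -/
theorem norm_M [Finite G] (S : Setup C Z Q P M D t) {g : G} (h : ∀ x ∈ M, g * x * g⁻¹ ∈ P) :
    g ∈ normalizer (M : Set G) := by
  have h1 : M.map (MulAut.conj g).toMonoidHom = M := by
    refine S.Muniq _ ?_ ?_ ?_ card_map_conj
    · rintro _ ⟨x, hx, rfl⟩
      exact h x hx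
    · rintro _ ⟨x, hx, rfl⟩ _ ⟨y, hy, rfl⟩
      rw [← map_mul, S.Mab x hx y hy, map_mul]
    · rintro _ ⟨x, hx, rfl⟩
      rw [← map_pow, S.M3 x hx, map_one]
  refine mem_normalizer_of_conj_le fun x hx => ?_
  have h2 : g * x * g⁻¹ ∈ M.map (MulAut.conj g).toMonoidHom := conj_mem_map hx
  rwa [h1] at h2

theorem P_norm_M [Finite G] (S : Setup C Z Q P M D t) : P ≤ normalizer (M : Set G) := by
  intro g hg
  exact S.norm_M fun x hx => P.mul_mem (P.mul_mem hg (S.MP hx)) (P.inv_mem hg)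

/-- `Z` is strongly closed in `P` -/
theorem strongly_closed [Finite G] (S : Setup C Z Q P M D t)
    (hN : normalizer (M : Set G) ≤ normalizer (P : Set G)) {z g : G} (hz : z ∈ Z) (hg : g * z * g⁻¹ ∈ P) :
    g * z * g⁻¹ ∈ Z := by
  have main : ∀ (z g : G), z ∈ Z → z ≠ 1 → g * z * g⁻¹ ∈ M → g * z * g⁻¹ ∈ Z := by
    intro z g hz hz1 hM
    -- `g⁻¹ M g ≤ C`
    have h1 : ∀ x ∈ M, g⁻¹ * x * g ∈ C := by
      intro x hx
      rw [S.cent z hz hz1]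
      have h2 := S.Mab x hx _ hM
      calc g⁻¹ * x * g * z = g⁻¹ * (x * (g * z * g⁻¹)) * g := by group
        _ = g⁻¹ * (g * z * g⁻¹ * x) * g := by rw [h2]
        _ = z * (g⁻¹ * x * g) := by group
    have h2 : M.map (MulAut.conj g⁻¹).toMonoidHom ≤ C := by
      rintro _ ⟨x, hx, rfl⟩
      have : (MulAut.conj g⁻¹).toMonoidHom x = g⁻¹ * x * g := by simp
      rw [this]
      exact h1 x hx
    obtain ⟨c, hc, h3⟩ := S.conjPC h2 (S.Mp.map _)
    have h4 : c * g⁻¹ ∈ normalizer (M : Set G) := by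
      refine S.norm_M fun x hx => ?_
      have h5 := h3 _ (conj_mem_map (g := g⁻¹) hx)
      have h6 : c * g⁻¹ * x * (c * g⁻¹)⁻¹ = c * (g⁻¹ * x * g⁻¹⁻¹) * c⁻¹ := by group
      rw [h6]
      exact h5
    have h5 := hN h4
    rw [mem_normalizer_iff] at h5
    refine S.Pcent _ (S.MP hM) fun y hy => ?_
    have h6 : (c * g⁻¹) * y * (c * g⁻¹)⁻¹ ∈ C := S.PC ((h5 y).1 hy)
    have h7 := S.zcomm hz h6
    have h8 := S.zcomm hz hc
    -- `g z g⁻¹ = k⁻¹ z k`, `k = c g⁻¹`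
    have h9 : g * z * g⁻¹ = (c * g⁻¹)⁻¹ * z * (c * g⁻¹) := by
      calc g * z * g⁻¹ = g * (c⁻¹ * (c * z)) * g⁻¹ := by group
        _ = g * (c⁻¹ * (z * c)) * g⁻¹ := by rw [h8]
        _ = (c * g⁻¹)⁻¹ * z * (c * g⁻¹) := by group
    rw [h9]
    calc (c * g⁻¹)⁻¹ * z * (c * g⁻¹) * y = (c * g⁻¹)⁻¹ * (z * ((c * g⁻¹) * y * (c * g⁻¹)⁻¹)) * (c * g⁻¹) := by group
      _ = (c * g⁻¹)⁻¹ * (((c * g⁻¹) * y * (c * g⁻¹)⁻¹) * z) * (c * g⁻¹) := by rw [h7]
      _ = y * ((c * g⁻¹)⁻¹ * z * (c * g⁻¹)) := by group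
  by_cases hz1 : z = 1
  · subst hz1
    simp
  have h3 : (g * z * g⁻¹) ^ 3 = 1 := by
    rw [conj_pow, S.Z3 z hz]; simp
  rcases S.elts _ hg h3 with h | h
  · exact main z g hz hz1 h
  · by_contra hn
    obtain ⟨v, hvQ, hvM, hvZ⟩ := S.QM
    obtain ⟨c, hc, hcv⟩ := S.Qconj _ h hn v hvQ hvZ
    apply hvZ
    have h4 : (c * g) * z * (c * g)⁻¹ = v := by rw [← hcv]; group
    rw [← h4]
    refine main z (c * g) hz hz1 ?_
    rw [h4]
    exact hvM

/-- conjugates in `C` of elements of `Z` are in `Z` -/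
theorem strongly_closed' [Finite G] (S : Setup C Z Q P M D t)
    (hN : normalizer (M : Set G) ≤ normalizer (P : Set G)) {z g : G} (hz : z ∈ Z) (hg : g * z * g⁻¹ ∈ C) :
    g * z * g⁻¹ ∈ Z := by
  have h1 : IsPGroup 3 (zpowers (g * z * g⁻¹)) := by
    refine isPGroup_of_pow fun y hy => ?_
    obtain ⟨k, rfl⟩ := mem_zpowers_iff.1 hy
    rw [← zpow_natCast, ← zpow_mul, mul_comm, zpow_mul, zpow_natCast, conj_pow, S.Z3 z hz]
    simp
  obtain ⟨c, hc, h2⟩ := S.conjPC (by rwa [zpowers_le]) h1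
  have h3 := h2 _ (mem_zpowers _)
  have h4 : (c * g) * z * (c * g)⁻¹ ∈ Z := by
    apply S.strongly_closed hN hz
    have h5 : c * g * z * (c * g)⁻¹ = c * (g * z * g⁻¹) * c⁻¹ := by group
    rw [h5]; exact h3
  have h5 := S.C_le_H hc
  rw [mem_normalizer_iff] at h5
  rw [h5]
  have h6 : c * (g * z * g⁻¹) * c⁻¹ = c * g * z * (c * g)⁻¹ := by group
  rw [h6]
  exact h4

/-- elements conjugating an element of `Z#` into `C` normalise `Z` and `C` -/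
theorem mem_H_of_conj [Finite G] (S : Setup C Z Q P M D t)
    (hN : normalizer (M : Set G) ≤ normalizer (P : Set G)) {z g : G} (hz : z ∈ Z) (hz1 : z ≠ 1)
    (hg : g * z * g⁻¹ ∈ C) : g ∈ normalizer (Z : Set G) := by
  rw [S.mem_H_iff]
  exact S.conjC hz hz1 (S.strongly_closed' hN hz hg)

/-- 3-subgroups containing `Z` are in `C` -/
theorem le_C_of_Z_le [Finite G] (S : Setup C Z Q P M D t)
    (hN : normalizer (M : Set G) ≤ normalizer (P : Set G)) {T : Subgroup G} (hT : IsPGroup 3 T) (hZT : Z ≤ T) :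
    T ≤ C := by
  obtain ⟨g, hg⟩ := S.conjP hT
  obtain ⟨z, hz, hz1⟩ := S.exists_mem_ne
  have h1 := S.strongly_closed hN hz (hg z (hZT hz))
  have h2 := S.conjC hz hz1 h1
  intro x hx
  rw [h2]
  exact S.PC (hg x hx)

/-- 3'-subgroups normalised by `Z` are in `C` -/
theorem le_C_of_coprime [Finite G] (S : Setup C Z Q P M D t) {K : Subgroup G}
    (hK : Nat.Coprime 3 (Nat.card K)) (hZK : ∀ z ∈ Z, ∀ k ∈ K, z * k * z⁻¹ ∈ K) : K ≤ C := by
  have : Fact (Nat.Prime 3) := ⟨Nat.prime_three⟩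
  have hab : IsMulCommutative Z := ⟨⟨fun a b => Subtype.ext (S.zcomm b.2 (S.zC a.2))⟩⟩
  have hcyc : ¬ IsCyclic Z := by
    intro hc
    obtain ⟨g, hg⟩ := hc.exists_generator
    have h1 : orderOf g = Nat.card Z := orderOf_eq_card_of_forall_mem_zpowers hg
    have h2 : g ^ 3 = 1 := Subtype.ext (by simpa using S.Z3 g g.2)
    have h3 : orderOf g ∣ 3 := orderOf_dvd_of_pow_eq_one h2
    have h4 : 9 ∣ 3 := by
      rw [h1] at h3
      exact S.cardZ.trans h3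
    norm_num at h4
  have hcop : (Nat.card Z).Coprime (Nat.card K) := by
    obtain ⟨n, hn⟩ := IsPGroup.iff_card.1 S.Zp
    rw [hn]
    exact Nat.Coprime.pow_left n hK
  have hnorm : Z ≤ normalizer (K : Set G) := fun z hz => mem_normalizer_of_conj_le (hZK z hz)
  have h1 := Cfsg.Agent.S0058.result Z K hcyc hnorm hcop
  rw [← h1]
  refine iSup₂_le fun a ha => ?_
  intro x hx
  rw [S.cent a ha.1 ha.2]
  exact ((mem_centralizer_iff.1 hx.2) a rfl).symm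

/-- 3'-subgroups normalised by `C` are trivial -/
theorem eq_bot_of_coprime [Finite G] (S : Setup C Z Q P M D t) {K : Subgroup G}
    (hK : Nat.Coprime 3 (Nat.card K)) (hCK : ∀ c ∈ C, ∀ k ∈ K, c * k * c⁻¹ ∈ K) : K = ⊥ := by
  have : Fact (Nat.Prime 3) := ⟨Nat.prime_three⟩
  have hKC : K ≤ C := S.le_C_of_coprime hK fun z hz => hCK z (S.zC hz)
  have hKQ : ∀ x ∈ K, x ∈ Q → x = 1 := by
    intro x hx hxQ
    have h1 : orderOf x ∣ 3 := orderOf_dvd_of_pow_eq_one (S.Q3 x hxQ)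
    have h2 : orderOf x ∣ Nat.card K := by
      rw [← Subgroup.orderOf_mk x hx]
      exact orderOf_dvd_natCard _
    have h3 : orderOf x ∣ 1 := by
      rw [← (Nat.coprime_iff_gcd_eq_one.1 hK)]
      exact Nat.dvd_gcd h1 h2
    exact orderOf_eq_one_iff.1 (Nat.dvd_one.1 h3)
  rw [Subgroup.eq_bot_iff_forall]
  intro k hk
  refine hKQ k hk (S.ZQ (S.Qcent k (hKC hk) fun v hv => ?_))
  have h1 : k * v * k⁻¹ * v⁻¹ ∈ K := by
    have h2 : k * v * k⁻¹ * v⁻¹ = k * (v * k⁻¹ * v⁻¹) := by group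
    rw [h2]
    exact K.mul_mem hk (hCK v (S.QC hv) _ (K.inv_mem hk))
  have h2 : k * v * k⁻¹ * v⁻¹ ∈ Q := Q.mul_mem (S.Qn k (hKC hk) v hv) (Q.inv_mem hv)
  have h3 := hKQ _ h1 h2
  rw [mul_inv_eq_one, mul_inv_eq_iff_eq_mul] at h3
  exact h3

end Setup

end Cfsg.Agent.H334.Symp
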