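import Mathlib
import Cfsg.Agent.H334.Symp.Abs
import Cfsg.Agent.H334.Symp.El
import Cfsg.Agent.TwoFusion.SLTwoFacts
import Cfsg.Agent.ClassicalGeometry.PSL2Basic

/-!
# `El F` has the properties of `Setup`
-/

set_option autoImplicit false
set_option linter.unusedSimpArgs false
set_option linter.unusedVariables false

open Matrix Subgroup

namespace Cfsg.Agent.H334.Symp

namespace El

variable {F : Type*} [Field F]

/-- upper unitriangular matrices -/
def up (r : F) : Matrix.SpecialLinearGroup (Fin 2) F := ⟨!![1, r; 0, 1], by simp⟩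

theorem up00 (r : F) : (up r).1 0 0 = 1 := rfl
theorem up01 (r : F) : (up r).1 0 1 = r := rfl
theorem up10 (r : F) : (up r).1 1 0 = 0 := rfl
theorem up11 (r : F) : (up r).1 1 1 = 1 := rfl

theorem sl_ext {A B : Matrix.SpecialLinearGroup (Fin 2) F} (h00 : A.1 0 0 = B.1 0 0) (h01 : A.1 0 1 = B.1 0 1)
    (h10 : A.1 1 0 = B.1 1 0) (h11 : A.1 1 1 = B.1 1 1) : A = B := by
  apply Subtype.ext
  ext i j
  fin_cases i <;> fin_cases j
  · exact h00
  · exact h01
  · exact h10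
  · exact h11

theorem up_add (r s : F) : up (r + s) = up r * up s := by
  apply sl_ext <;> rw [sl_mul] <;> simp [up00, up01, up10, up11, add_comm]

theorem up_zero : up (0 : F) = 1 := by
  apply sl_ext <;> simp [up00, up01, up10, up11, sl_one00, sl_one01, sl_one10, sl_one11]

theorem up_neg (r : F) : up (-r) = (up r)⁻¹ := by
  rw [eq_inv_iff_mul_eq_one, ← up_add, neg_add_cancel, up_zero]

theorem up_inj {r s : F} (h : up r = up s) : r = s := by
  have := congrArg (fun A : Matrix.SpecialLinearGroup (Fin 2) F => A.1 0 1) h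
  simpa [up01] using this

/-- the matrix part -/
def mat (F : Type*) [Field F] : El F →* Matrix.SpecialLinearGroup (Fin 2) F where
  toFun g := g.A
  map_one' := rfl
  map_mul' _ _ := rfl

/-- the embedding of `SL(2,F)` -/
def emb (F : Type*) [Field F] : Matrix.SpecialLinearGroup (Fin 2) F →* El F where
  toFun A := ⟨0, 0, 0, A⟩
  map_one' := rfl
  map_mul' A B := by
    ext1
    · simp
    · simp
    · simp
    · simp

@[simp] theorem emb_z (A : Matrix.SpecialLinearGroup (Fin 2) F) : (emb F A).z = 0 := rfl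
@[simp] theorem emb_x (A : Matrix.SpecialLinearGroup (Fin 2) F) : (emb F A).x = 0 := rfl
@[simp] theorem emb_y (A : Matrix.SpecialLinearGroup (Fin 2) F) : (emb F A).y = 0 := rfl
@[simp] theorem emb_A (A : Matrix.SpecialLinearGroup (Fin 2) F) : (emb F A).A = A := rfl

theorem emb_injective : Function.Injective (emb F) := fun _ _ h => congrArg El.A h

/-- the centre -/
def Zs (F : Type*) [Field F] : Subgroup (El F) where
  carrier := {g | g.x = 0 ∧ g.y = 0 ∧ g.A = 1}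
  one_mem' := ⟨rfl, rfl, rfl⟩
  mul_mem' := by
    rintro a b ⟨h1, h2, h3⟩ ⟨h4, h5, h6⟩
    refine ⟨?_, ?_, ?_⟩
    · simp [h1, h4, h5]
    · simp [h2, h4, h5]
    · simp [h3, h6]
  inv_mem' := by
    rintro a ⟨h1, h2, h3⟩
    exact ⟨by simp [h1, h2], by simp [h1, h2], by simp [h3]⟩

/-- `Q` -/
def Qs (F : Type*) [Field F] : Subgroup (El F) := (mat F).ker

/-- `P` -/
def Ps (F : Type*) [Field F] : Subgroup (El F) where
  carrier := {g | ∃ r, g.A = up r}
  one_mem' := ⟨0, up_zero.symm⟩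
  mul_mem' := by
    rintro a b ⟨r, hr⟩ ⟨s, hs⟩
    exact ⟨r + s, by rw [mul_A, hr, hs, up_add]⟩
  inv_mem' := by
    rintro a ⟨r, hr⟩
    exact ⟨-r, by rw [inv_A, hr, up_neg]⟩

/-- `M` -/
def Ms (F : Type*) [Field F] : Subgroup (El F) where
  carrier := {g | g.y = 0 ∧ ∃ r, g.A = up r}
  one_mem' := ⟨rfl, 0, up_zero.symm⟩
  mul_mem' := by
    rintro a b ⟨h1, r, hr⟩ ⟨h2, s, hs⟩
    refine ⟨?_, r + s, by rw [mul_A, hr, hs, up_add]⟩
    rw [mul_y, h1, h2, hr, up10]; ring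
  inv_mem' := by
    rintro a ⟨h1, r, hr⟩
    refine ⟨?_, -r, by rw [inv_A, hr, up_neg]⟩
    rw [inv_y, h1, hr, up10]; ring

/-- `D` -/
def Ds (F : Type*) [Field F] : Subgroup (El F) := (emb F).range

/-- `t` -/
def ts (F : Type*) [Field F] : El F := emb F (-1)

theorem mem_Zs {g : El F} : g ∈ Zs F ↔ g.x = 0 ∧ g.y = 0 ∧ g.A = 1 := Iff.rfl
theorem mem_Qs {g : El F} : g ∈ Qs F ↔ g.A = 1 := Iff.rfl
theorem mem_Ps {g : El F} : g ∈ Ps F ↔ ∃ r, g.A = up r := Iff.rfl
theorem mem_Ms {g : El F} : g ∈ Ms F ↔ g.y = 0 ∧ ∃ r, g.A = up r := Iff.rfl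
theorem mem_Ds {g : El F} : g ∈ Ds F ↔ g.z = 0 ∧ g.x = 0 ∧ g.y = 0 := by
  constructor
  · rintro ⟨A, rfl⟩
    exact ⟨rfl, rfl, rfl⟩
  · rintro ⟨h1, h2, h3⟩
    exact ⟨g.A, by ext1 <;> simp [h1, h2, h3]⟩

theorem Zs_le_Qs : Zs F ≤ Qs F := fun _ h => h.2.2

theorem Qs_le_Ps : Qs F ≤ Ps F := fun g h => ⟨0, by rw [up_zero]; exact h⟩

theorem Ms_le_Ps : Ms F ≤ Ps F := fun _ h => h.2

theorem Zs_le_Ms : Zs F ≤ Ms F := fun g h => ⟨h.2.1, 0, by rw [up_zero]; exact h.2.2⟩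

/-- elements of `Z` are central -/
theorem comm_of_Zs {z : El F} (hz : z ∈ Zs F) (g : El F) : g * z = z * g := by
  obtain ⟨h1, h2, h3⟩ := hz
  ext1
  · simp only [mul_z, h1, h2, h3, sl_one00, sl_one01, sl_one10, sl_one11]; ring
  · simp only [mul_x, h1, h2, h3, sl_one00, sl_one01]; ring
  · simp only [mul_y, h1, h2, h3, sl_one10, sl_one11]; ring
  · simp [h3]

/-- the vector elements -/
def q (z x y : F) : El F := ⟨z, x, y, 1⟩

@[simp] theorem q_z (z x y : F) : (q z x y).z = z := rfl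
@[simp] theorem q_x (z x y : F) : (q z x y).x = x := rfl
@[simp] theorem q_y (z x y : F) : (q z x y).y = y := rfl
@[simp] theorem q_A (z x y : F) : (q z x y).A = 1 := rfl

theorem q_mem (z x y : F) : q z x y ∈ Qs F := mem_Qs.2 rfl

theorem eq_q {g : El F} (h : g ∈ Qs F) : g = q g.z g.x g.y := by
  ext1
  · rfl
  · rfl
  · rfl
  · exact mem_Qs.1 h

theorem q_mem_Zs_iff {z x y : F} : q z x y ∈ Zs F ↔ x = 0 ∧ y = 0 := by
  rw [mem_Zs]; simp

/-- commuting with `q 0 1 0` and `q 0 0 1` -/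
theorem A_eq_one_of_comm {g : El F} (h1 : g * q 0 1 0 = q 0 1 0 * g) (h2 : g * q 0 0 1 = q 0 0 1 * g) :
    g.A = 1 := by
  have e1 := congrArg El.x h1
  have e2 := congrArg El.y h1
  have e3 := congrArg El.x h2
  have e4 := congrArg El.y h2
  simp only [mul_x, mul_y, q_x, q_y, q_A, sl_one00, sl_one01, sl_one10, sl_one11] at e1 e2 e3 e4
  apply sl_ext
  · rw [sl_one00]; linear_combination e1
  · rw [sl_one01]; linear_combination e3
  · rw [sl_one10]; linear_combination e2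
  · rw [sl_one11]; linear_combination e4

theorem xy_eq_zero_of_comm (h2F : (2 : F) ≠ 0) {g : El F} (hA : g.A = 1) (h1 : g * q 0 1 0 = q 0 1 0 * g)
    (h2 : g * q 0 0 1 = q 0 0 1 * g) : g.x = 0 ∧ g.y = 0 := by
  have e1 := congrArg El.z h1
  have e2 := congrArg El.z h2
  simp only [mul_z, q_x, q_y, q_z, q_A, hA, sl_one00, sl_one01, sl_one10, sl_one11] at e1 e2
  constructor
  · have : 2 * g.x = 0 := by linear_combination e2
    exact (mul_eq_zero.1 this).resolve_left h2F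
  · have : 2 * g.y = 0 := by linear_combination -e1
    exact (mul_eq_zero.1 this).resolve_left h2F

theorem ts_sq : ts F * ts F = 1 := by
  unfold ts
  rw [← map_mul]
  simp

theorem neg_one_apply (i j : Fin 2) : (-1 : Matrix.SpecialLinearGroup (Fin 2) F).1 i j =
    -(1 : Matrix.SpecialLinearGroup (Fin 2) F).1 i j := rfl

theorem ts_comm_iff (h2F : (2 : F) ≠ 0) {g : El F} : g * ts F = ts F * g ↔ g.x = 0 ∧ g.y = 0 := by
  constructor
  · intro h
    have e1 := congrArg El.x h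
    have e2 := congrArg El.y h
    simp only [ts, mul_x, mul_y, emb_x, emb_y, emb_A, neg_one_apply, sl_one00, sl_one01, sl_one10,
      sl_one11] at e1 e2
    constructor
    · have : 2 * g.x = 0 := by linear_combination e1
      exact (mul_eq_zero.1 this).resolve_left h2F
    · have : 2 * g.y = 0 := by linear_combination e2
      exact (mul_eq_zero.1 this).resolve_left h2F
  · rintro ⟨h1, h2⟩
    ext1
    · simp [ts, h1, h2]
    · simp [ts, h1, h2, neg_one_apply]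
    · simp [ts, h1, h2, neg_one_apply]
    · simp [ts]

theorem center_iff (h2F : (2 : F) ≠ 0) {g : El F} : g ∈ Zs F ↔ ∀ c, c * g = g * c := by
  constructor
  · exact fun h c => comm_of_Zs h c
  · intro h
    have h1 := (h (q 0 1 0)).symm
    have h2 := (h (q 0 0 1)).symm
    have hA := A_eq_one_of_comm h1 h2
    obtain ⟨hx, hy⟩ := xy_eq_zero_of_comm h2F hA h1 h2
    exact ⟨hx, hy, hA⟩

theorem q_mul (z x y z' x' y' : F) : q z x y * q z' x' y' = q (z + z' + (x * y' - y * x')) (x + x') (y + y') := by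
  ext1
  · simp only [mul_z, q_x, q_y, q_z, q_A, sl_one00, sl_one01, sl_one10, sl_one11]; ring
  · simp only [mul_x, q_x, q_y, q_A, sl_one00, sl_one01]; ring
  · simp only [mul_y, q_x, q_y, q_A, sl_one10, sl_one11]; ring
  · simp

theorem q_zero : q (0 : F) 0 0 = 1 := rfl

theorem q_inv (z x y : F) : (q z x y)⁻¹ = q (-z) (-x) (-y) := by
  rw [inv_eq_iff_mul_eq_one, q_mul, ← q_zero]
  congr 1 <;> ring

theorem q_pow (z x y : F) (k : ℕ) : q z x y ^ k = q (k * z) (k * x) (k * y) := by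
  induction k with
  | zero => rw [pow_zero, ← q_zero]; simp
  | succ n ih =>
    rw [pow_succ, ih, q_mul]
    congr 1
    · push_cast; ring
    · push_cast; ring
    · push_cast; ring

theorem q_comm (z x y z' x' y' : F) : q z x y * q z' x' y' * (q z x y)⁻¹ * (q z' x' y')⁻¹ =
    q (2 * (x * y' - y * x')) 0 0 := by
  rw [q_inv, q_inv, q_mul, q_mul, q_mul]
  congr 1 <;> ring

theorem q_inj {z x y z' x' y' : F} (h : q z x y = q z' x' y') : z = z' ∧ x = x' ∧ y = y' :=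
  ⟨congrArg El.z h, congrArg El.x h, congrArg El.y h⟩

theorem emb_q (A : Matrix.SpecialLinearGroup (Fin 2) F) (z x y : F) :
    emb F A * q z x y = q z (A.1 0 0 * x + A.1 0 1 * y) (A.1 1 0 * x + A.1 1 1 * y) * emb F A := by
  ext1
  · simp
  · simp
  · simp
  · simp

/-- every element of `Q - Z` is conjugate to `q 0 1 0` -/
theorem exists_conj_std (h2F : (2 : F) ≠ 0) {v : El F} (hv : v ∈ Qs F) (hvZ : v ∉ Zs F) :
    ∃ g : El F, g * q 0 1 0 = v * g := by
  have hne : v.x ≠ 0 ∨ v.y ≠ 0 := by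
    by_contra hcon
    push Not at hcon
    exact hvZ ⟨hcon.1, hcon.2, mem_Qs.1 hv⟩
  obtain ⟨B, hB0, hB1⟩ : ∃ B : Matrix.SpecialLinearGroup (Fin 2) F, B.1 0 0 = v.x ∧ B.1 1 0 = v.y := by
    by_cases hx : v.x = 0
    · have hy : v.y ≠ 0 := hne.resolve_left (fun h => h hx)
      exact ⟨⟨!![0, -v.y⁻¹; v.y, 0], by simp [Matrix.det_fin_two_of, hy]⟩, hx.symm, rfl⟩
    · exact ⟨⟨!![v.x, 0; v.y, v.x⁻¹], by simp [Matrix.det_fin_two_of, hx]⟩, rfl, rfl⟩
  obtain ⟨u1, u2, hu⟩ : ∃ u1 u2 : F, 2 * (u1 * v.y - u2 * v.x) = v.z := by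
    by_cases hx : v.x = 0
    · have hy : v.y ≠ 0 := hne.resolve_left (fun h => h hx)
      refine ⟨v.z / (2 * v.y), 0, ?_⟩
      field_simp
      ring
    · refine ⟨0, -(v.z / (2 * v.x)), ?_⟩
      field_simp
      ring
  refine ⟨q 0 u1 u2 * emb F B, ?_⟩
  rw [mul_assoc, emb_q, eq_q hv, ← mul_assoc, ← mul_assoc, q_mul, q_mul, hB0, hB1]
  congr 2
  · linear_combination hu
  · ring
  · ring

theorem Q_conj (h2F : (2 : F) ≠ 0) {v w : El F} (hv : v ∈ Qs F) (hvZ : v ∉ Zs F) (hw : w ∈ Qs F)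
    (hwZ : w ∉ Zs F) : ∃ c : El F, c * v * c⁻¹ = w := by
  obtain ⟨g, hg⟩ := exists_conj_std h2F hv hvZ
  obtain ⟨k, hk⟩ := exists_conj_std h2F hw hwZ
  refine ⟨k * g⁻¹, ?_⟩
  have h1 : v = g * q 0 1 0 * g⁻¹ := by rw [hg]; group
  have h2 : w = k * q 0 1 0 * k⁻¹ := by rw [hk]; group
  rw [h1, h2]; group

/-- cubes in `P` -/
theorem cube {g : El F} (h3 : (3 : F) = 0) {r : F} (hr : g.A = up r) : g ^ 3 = q (-(r * g.y * g.y)) 0 0 := by
  have e : g ^ 3 = g * g * g := by rw [pow_succ, pow_two]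
  rw [e]
  ext1
  · simp only [mul_z, mul_x, mul_y, mul_A, hr, sl_mul, up00, up01, up10, up11, q_z]
    linear_combination (g.z - r * g.y * g.y) * h3
  · simp only [mul_x, mul_y, mul_A, hr, sl_mul, up00, up01, up10, up11, q_x]
    linear_combination (g.x + r * g.y) * h3
  · simp only [mul_y, mul_A, hr, sl_mul, up00, up01, up10, up11, q_y]
    linear_combination g.y * h3
  · simp only [mul_A, hr, q_A, ← up_add]
    rw [← up_zero]
    congr 1
    linear_combination r * h3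

theorem isPGroup_Ps (h3 : (3 : F) = 0) : IsPGroup 3 (Ps F) := by
  rintro ⟨g, r, hr⟩
  refine ⟨2, ?_⟩
  apply Subtype.ext
  show g ^ 3 ^ 2 = 1
  have : (3 : ℕ) ^ 2 = 3 * 3 := by norm_num
  rw [this, pow_mul, cube h3 hr, q_pow, ← q_zero]
  congr 1
  · push_cast; rw [h3]; ring
  · ring
  · ring

/-- `P` as a set -/
def equivPs : Ps F ≃ F × F × F × F where
  toFun g := (g.1.z, g.1.x, g.1.y, g.1.A.1 0 1)
  invFun p := ⟨⟨p.1, p.2.1, p.2.2.1, up p.2.2.2⟩, p.2.2.2, rfl⟩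
  left_inv := by
    rintro ⟨g, r, hr⟩
    apply Subtype.ext
    ext1
    · rfl
    · rfl
    · rfl
    · show up (g.A.1 0 1) = g.A
      rw [hr, up01]
  right_inv := by
    rintro ⟨a, b, c, d⟩
    rfl

def equivMs : Ms F ≃ F × F × F where
  toFun g := (g.1.z, g.1.x, g.1.A.1 0 1)
  invFun p := ⟨⟨p.1, p.2.1, 0, up p.2.2⟩, rfl, p.2.2, rfl⟩
  left_inv := by
    rintro ⟨g, hy, r, hr⟩
    apply Subtype.ext
    ext1
    · rfl
    · rfl
    · exact hy.symm
    · show up (g.A.1 0 1) = g.A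
      rw [hr, up01]
  right_inv := by
    rintro ⟨a, b, c⟩
    rfl

def equivZs : Zs F ≃ F where
  toFun g := g.1.z
  invFun p := ⟨q p 0 0, rfl, rfl, rfl⟩
  left_inv := by
    rintro ⟨g, h1, h2, h3⟩
    apply Subtype.ext
    ext1
    · rfl
    · exact h1.symm
    · exact h2.symm
    · exact h3.symm
  right_inv := fun _ => rfl

def equivEl : El F ≃ F × F × F × Matrix.SpecialLinearGroup (Fin 2) F where
  toFun g := (g.z, g.x, g.y, g.A)
  invFun p := ⟨p.1, p.2.1, p.2.2.1, p.2.2.2⟩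
  left_inv _ := rfl
  right_inv _ := rfl

instance instFinite [Finite F] : Finite (El F) := Finite.of_equiv _ (equivEl (F := F)).symm

theorem card_Ps : Nat.card (Ps F) = Nat.card F ^ 4 := by
  rw [Nat.card_congr equivPs, Nat.card_prod, Nat.card_prod, Nat.card_prod]; ring

theorem card_Ms : Nat.card (Ms F) = Nat.card F ^ 3 := by
  rw [Nat.card_congr equivMs, Nat.card_prod, Nat.card_prod]; ring

theorem card_Zs : Nat.card (Zs F) = Nat.card F := Nat.card_congr equivZs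

theorem card_El [Finite F] : Nat.card (El F) = Nat.card F ^ 4 * (Nat.card F ^ 2 - 1) := by
  classical
  have := Fintype.ofFinite F
  rw [Nat.card_congr equivEl, Nat.card_prod, Nat.card_prod, Nat.card_prod,
    Cfsg.Agent.ClassicalGeometry.PSL2Basic.card_SL2, Nat.card_eq_fintype_card]
  ring

theorem index_Ps [Finite F] {m : ℕ} (hF : Nat.card F = 3 ^ m) (hm : 1 ≤ m) : ¬ 3 ∣ (Ps F).index := by
  have h1 := (Ps F).card_mul_index
  rw [card_Ps, card_El] at h1
  have h2 : 0 < Nat.card F ^ 4 := by rw [hF]; positivity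
  have h3 := Nat.eq_of_mul_eq_mul_left h2 h1
  rw [h3, hF]
  intro h4
  have h5 : 3 ∣ (3 ^ m) ^ 2 := by
    rw [← pow_mul]
    exact dvd_pow_self 3 (by omega)
  have h6 : 1 ≤ (3 ^ m) ^ 2 := Nat.one_le_pow _ _ (by positivity)
  have h7 : 3 ∣ 1 := by
    have := (Nat.dvd_sub h5 h4)
    rwa [Nat.sub_sub_self h6] at this
  norm_num at h7

/-- elements of `P` commuting with `P` -/
theorem mem_Zs_of_comm_P (h2F : (2 : F) ≠ 0) {g : El F} (hg : g ∈ Ps F) (h : ∀ c ∈ Ps F, g * c = c * g) :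
    g ∈ Zs F := by
  have h1 := h (q 0 1 0) (Qs_le_Ps (q_mem _ _ _))
  have h2 := h (q 0 0 1) (Qs_le_Ps (q_mem _ _ _))
  have hA := A_eq_one_of_comm h1 h2
  obtain ⟨hx, hy⟩ := xy_eq_zero_of_comm h2F hA h1 h2
  exact ⟨hx, hy, hA⟩

theorem Ms_comm {g h : El F} (hg : g ∈ Ms F) (hh : h ∈ Ms F) : g * h = h * g := by
  obtain ⟨h1, r, hr⟩ := hg
  obtain ⟨h2, s, hs⟩ := hh
  ext1
  · simp only [mul_z, hr, hs, h1, h2, up00, up01, up10, up11]; ring
  · simp only [mul_x, hr, hs, h1, h2, up00, up01]; ring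
  · simp only [mul_y, hr, hs, h1, h2, up10, up11]; ring
  · rw [mul_A, mul_A, hr, hs, ← up_add, ← up_add, add_comm]

theorem Ms_pow (h3 : (3 : F) = 0) {g : El F} (hg : g ∈ Ms F) : g ^ 3 = 1 := by
  obtain ⟨h1, r, hr⟩ := hg
  rw [cube h3 hr, h1, ← q_zero]
  congr 1
  ring

theorem Qs_pow (h3 : (3 : F) = 0) {g : El F} (hg : g ∈ Qs F) : g ^ 3 = 1 := by
  rw [eq_q hg, q_pow, ← q_zero]
  congr 1 <;> (push_cast; rw [h3]; ring)

theorem elts (h3 : (3 : F) = 0) {g : El F} (hg : g ∈ Ps F) (h : g ^ 3 = 1) : g ∈ Ms F ∨ g ∈ Qs F := by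
  obtain ⟨r, hr⟩ := hg
  rw [cube h3 hr, ← q_zero] at h
  have h1 := (q_inj h).1
  rw [neg_eq_zero, mul_eq_zero, mul_eq_zero] at h1
  rcases h1 with (h1 | h1) | h1
  · right
    rw [mem_Qs, hr, h1, up_zero]
  · left
    exact ⟨h1, r, hr⟩
  · left
    exact ⟨h1, r, hr⟩

/-- centralizers of elements of `Q ∩ M - Z` -/
theorem mem_Ms_of_comm_Q (h2F : (2 : F) ≠ 0) {v g : El F} (hvQ : v ∈ Qs F) (hvM : v ∈ Ms F) (hvZ : v ∉ Zs F)
    (h : g * v = v * g) : g ∈ Ms F := by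
  have hy := hvM.1
  have hx : v.x ≠ 0 := fun hx => hvZ ⟨hx, hy, mem_Qs.1 hvQ⟩
  have hA := mem_Qs.1 hvQ
  have e1 := congrArg El.z h
  have e2 := congrArg El.x h
  have e3 := congrArg El.y h
  simp only [mul_z, mul_x, mul_y, hA, hy, sl_one00, sl_one01, sl_one10, sl_one11] at e1 e2 e3
  have h00 : g.A.1 0 0 = 1 := by
    apply mul_right_cancel₀ hx
    linear_combination e2
  have h10 : g.A.1 1 0 = 0 := by
    have : g.A.1 1 0 * v.x = 0 := by linear_combination e3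
    exact (mul_eq_zero.1 this).resolve_right hx
  have h11 : g.A.1 1 1 = 1 := by
    have := det_eq g.A
    rw [h00, h10] at this
    linear_combination this
  refine ⟨?_, g.A.1 0 1, sl_ext h00 rfl h10 h11⟩
  have : 2 * v.x * g.y = 0 := by
    rw [h00, h10] at e1
    linear_combination -e1
  rcases mul_eq_zero.1 this with h4 | h4
  · rcases mul_eq_zero.1 h4 with h5 | h5
    · exact absurd h5 h2F
    · exact absurd h5 hx
  · exact h4

/-- centralizers in `P` of elements of `M - Z` -/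
theorem mem_Ms_of_comm_M (h2F : (2 : F) ≠ 0) {v g : El F} (hvM : v ∈ Ms F) (hvZ : v ∉ Zs F) (hg : g ∈ Ps F)
    (h : g * v = v * g) : g ∈ Ms F := by
  by_cases hvQ : v ∈ Qs F
  · exact mem_Ms_of_comm_Q h2F hvQ hvM hvZ h
  obtain ⟨r, hr⟩ := hg
  obtain ⟨hy, s, hs⟩ := hvM
  have hs0 : s ≠ 0 := by
    rintro rfl
    exact hvQ (by rw [mem_Qs, hs, up_zero])
  refine ⟨?_, r, hr⟩
  have e2 := congrArg El.x h
  simp only [mul_x, hr, hs, hy, up00, up01] at e2
  have : s * g.y = 0 := by linear_combination -e2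
  exact (mul_eq_zero.1 this).resolve_left hs0

theorem mem_Ms_of_act {u : El F} (hu : u ∈ Ps F) (h : ∀ m ∈ Ms F, u * m * u⁻¹ * m⁻¹ ∈ Zs F) : u ∈ Ms F := by
  obtain ⟨r, hr⟩ := hu
  refine ⟨?_, r, hr⟩
  have h1 := h (emb F (up 1)) ⟨rfl, 1, rfl⟩
  have h2 : u * emb F (up 1) = (u * emb F (up 1) * u⁻¹ * (emb F (up 1))⁻¹) * (emb F (up 1) * u) := by group
  have e := congrArg El.x h2
  obtain ⟨k1, k2, k3⟩ := h1
  generalize u * emb F (up 1) * u⁻¹ * (emb F (up 1))⁻¹ = w at k1 k2 k3 e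
  simp only [mul_x, mul_y, emb_x, emb_y, emb_A, up00, up01, up10, up11, k1, k2, k3, sl_one00, sl_one01] at e
  linear_combination -e

theorem comm_mem_Zs {u v : El F} (hu : u ∈ Ps F) (hvQ : v ∈ Qs F) (hvM : v ∈ Ms F) :
    u * v * u⁻¹ * v⁻¹ ∈ Zs F := by
  obtain ⟨r, hr⟩ := hu
  have hy := hvM.1
  have h1 : u * v = q (-(2 * u.y * v.x)) 0 0 * (v * u) := by
    have hA := mem_Qs.1 hvQ
    ext1
    · simp only [mul_z, mul_x, mul_y, hr, hA, hy, up00, up01, up10, up11, q_z, q_x, q_y, q_A, sl_one00,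
        sl_one01, sl_one10, sl_one11]; ring
    · simp only [mul_x, mul_y, hr, hA, hy, up00, up01, up10, up11, q_z, q_x, q_y, q_A, sl_one00,
        sl_one01, sl_one10, sl_one11]; ring
    · simp only [mul_x, mul_y, hr, hA, hy, up00, up01, up10, up11, q_z, q_x, q_y, q_A, sl_one00,
        sl_one01, sl_one10, sl_one11]; ring
    · simp [hA]
  have h2 : u * v * u⁻¹ * v⁻¹ = q (-(2 * u.y * v.x)) 0 0 := by rw [h1]; group
  rw [h2, q_mem_Zs_iff]
  exact ⟨rfl, rfl⟩

end El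

end Cfsg.Agent.H334.Symp
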