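import Mathlib
import Cfsg.Agent.H334.Symp.Model

/-!
# `El F`, `F` of order `3^m`, has the properties of `Setup`, and so have its images
-/

set_option autoImplicit false
set_option linter.unusedSimpArgs false
set_option linter.unusedVariables false

open Matrix Subgroup

open scoped commutatorElement

namespace Cfsg.Agent.H334.Symp

namespace El

variable {F : Type*} [Field F]

theorem emb_mem (A : Matrix.SpecialLinearGroup (Fin 2) F) : emb F A ∈ Ds F := ⟨A, rfl⟩

/-- the Weyl element -/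
def w0 (F : Type*) [Field F] : Matrix.SpecialLinearGroup (Fin 2) F := ⟨!![0, -1; 1, 0], by simp [Matrix.det_fin_two_of]⟩

/-- normal 3-subgroups are in `Q` -/
theorem le_Qs [Finite F] {m : ℕ} (hF : Nat.card F = 3 ^ m) (hm : 1 ≤ m) (h3 : (3 : F) = 0) {N : Subgroup (El F)}
    (hN : ∀ c n : El F, n ∈ N → c * n * c⁻¹ ∈ N) (hNp : IsPGroup 3 N) : N ≤ Qs F := by
  have : Fact (Nat.Prime 3) := ⟨Nat.prime_three⟩
  have hn : N.Normal := ⟨fun n hn g => hN g n hn⟩
  have h1 : N ≤ Ps F := by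
    have h2 : (Ps F ⊔ N : Subgroup (El F)) ≤ Ps F := by
      refine le_of_syl le_sup_left le_top (IsPGroup.to_sup_of_normal_right (isPGroup_Ps h3) hNp) ?_
      rw [relIndex_top_right]
      exact index_Ps hF hm
    exact le_sup_right.trans h2
  intro n hnN
  obtain ⟨r, hr⟩ := h1 hnN
  obtain ⟨s, hs⟩ := h1 (hN (emb F (w0 F)) n hnN)
  rw [mul_A, mul_A, inv_A, emb_A, hr] at hs
  have h2 : w0 F * up r = up s * w0 F := by rw [← hs]; group
  have h3 := congrArg (fun A : Matrix.SpecialLinearGroup (Fin 2) F => A.1 1 1) h2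
  simp only [sl_mul, up01, up11, up10] at h3
  simp [w0] at h3
  rw [mem_Qs, hr, h3, up_zero]

theorem card_mul_rel {G : Type*} [Group G] {H K : Subgroup G} (h : H ≤ K) :
    Nat.card H * H.relIndex K = Nat.card K := by
  have := relIndex_mul_relIndex ⊥ H K bot_le h
  rwa [relIndex_bot_left, relIndex_bot_left] at this

/-- uniqueness of `M` -/
theorem Ms_unique [Finite F] {m : ℕ} (hF : Nat.card F = 3 ^ m) (hm : 1 ≤ m) (h2F : (2 : F) ≠ 0)
    {M' : Subgroup (El F)} (hle : M' ≤ Ps F) (hab : ∀ x ∈ M', ∀ y ∈ M', x * y = y * x)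
    (hcard : Nat.card M' = Nat.card (Ms F)) : M' = Ms F := by
  by_contra hne
  have hnle : ¬ M' ≤ Ms F := by
    intro h
    exact hne (Subgroup.eq_of_le_of_card_ge h hcard.ge)
  obtain ⟨u, hu, huM⟩ := Set.not_subset.1 hnle
  have h1 : Ms F ⊓ M' ≤ Zs F := by
    intro v hv
    by_contra hvZ
    exact huM (mem_Ms_of_comm_M h2F hv.1 hvZ (hle hu) (hab u hu v hv.2))
  have h2 : Nat.card (Ms F ⊓ M' : Subgroup (El F)) ≤ Nat.card F := by
    rw [← card_Zs (F := F)]
    exact Subgroup.card_le_of_le h1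
  have h3 : (Ms F).relIndex M' ≤ (Ms F).relIndex (Ps F) :=
    relIndex_le_of_le_right hle (by
      rw [relIndex]
      exact Subgroup.index_ne_zero_of_finite)
  have h4 : Nat.card (Ms F) * (Ms F).relIndex (Ps F) = Nat.card (Ps F) := card_mul_rel Ms_le_Ps
  have h5 : Nat.card (Ms F ⊓ M' : Subgroup (El F)) * (Ms F).relIndex M' = Nat.card M' := by
    have := card_mul_rel (inf_le_right : Ms F ⊓ M' ≤ M')
    rwa [inf_relIndex_right] at this
  rw [card_Ms, card_Ps] at h4
  rw [hcard, card_Ms] at h5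
  have hq : 3 ≤ Nat.card F := by
    rw [hF]
    calc 3 = 3 ^ 1 := by norm_num
      _ ≤ 3 ^ m := Nat.pow_le_pow_right (by norm_num) hm
  have h6 : (Ms F).relIndex (Ps F) = Nat.card F := by
    have h7 : Nat.card F ^ 3 * (Ms F).relIndex (Ps F) = Nat.card F ^ 3 * Nat.card F := by rw [h4]; ring
    exact Nat.eq_of_mul_eq_mul_left (by positivity) h7
  rw [h6] at h3
  have h7 : Nat.card F ^ 3 ≤ Nat.card F * Nat.card F := by
    rw [← h5]
    exact Nat.mul_le_mul h2 h3
  nlinarith

/-- normal subgroups of `SL(2,F)` -/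
theorem sl_normal [Fintype F] (hF : 3 < Fintype.card F) (N : Subgroup (Matrix.SpecialLinearGroup (Fin 2) F))
    (hN : N.Normal) : N = ⊤ ∨ N ≤ center (Matrix.SpecialLinearGroup (Fin 2) F) := by
  have hs := Cfsg.Agent.TwoFusion.SLTwoFacts.isSimpleGroup_psl hF
  have hp := Cfsg.Agent.TwoFusion.SLTwoFacts.commutator_eq_top hF
  obtain ⟨π, hπ⟩ : ∃ π : Matrix.SpecialLinearGroup (Fin 2) F →* Matrix.ProjectiveSpecialLinearGroup (Fin 2) F,
      π = QuotientGroup.mk' _ := ⟨_, rfl⟩
  have hsurj : Function.Surjective π := by rw [hπ]; exact QuotientGroup.mk'_surjective _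
  have hker : π.ker = center (Matrix.SpecialLinearGroup (Fin 2) F) := by rw [hπ]; exact QuotientGroup.ker_mk' _
  have hNn : (N.map π).Normal := hN.map π hsurj
  rcases hNn.eq_bot_or_eq_top with h | h
  · right
    rw [← hker]
    exact (Subgroup.map_eq_bot_iff N).1 h
  · left
    have h1 : N ⊔ center (Matrix.SpecialLinearGroup (Fin 2) F) = ⊤ := by
      rw [← hker, ← Subgroup.comap_map_eq, h, Subgroup.comap_top]
    rw [eq_top_iff, ← hp, _root_.commutator_def, Subgroup.commutator_le]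
    intro a _ b _
    have ha : a ∈ N ⊔ center (Matrix.SpecialLinearGroup (Fin 2) F) := by rw [h1]; exact mem_top a
    have hb : b ∈ N ⊔ center (Matrix.SpecialLinearGroup (Fin 2) F) := by rw [h1]; exact mem_top b
    rw [mem_sup_of_normal_left] at ha hb
    obtain ⟨n, hn, c, hc, rfl⟩ := ha
    obtain ⟨n', hn', c', hc', rfl⟩ := hb
    rw [mem_center_iff] at hc hc'
    have e : ⁅n * c, n' * c'⁆ = ⁅n, n'⁆ := by
      rw [commutatorElement_def, commutatorElement_def]
      calc n * c * (n' * c') * (n * c)⁻¹ * (n' * c')⁻¹ = n * (c * (n' * c' * c⁻¹)) * n⁻¹ * c'⁻¹ * n'⁻¹ := by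
            group
        _ = n * ((n' * c' * c⁻¹) * c) * n⁻¹ * c'⁻¹ * n'⁻¹ := by rw [← hc (n' * c' * c⁻¹)]
        _ = n * (n' * (c' * n⁻¹)) * c'⁻¹ * n'⁻¹ := by group
        _ = n * (n' * (n⁻¹ * c')) * c'⁻¹ * n'⁻¹ := by rw [← hc' n⁻¹]
        _ = n * n' * n⁻¹ * n'⁻¹ := by group
    rw [e, commutatorElement_def]
    exact N.mul_mem (N.mul_mem (N.mul_mem hn hn') (N.inv_mem hn)) (N.inv_mem hn')

/-- elements of order 2 of `SL(2,F)` -/
theorem sl_sq (h2F : (2 : F) ≠ 0) {A : Matrix.SpecialLinearGroup (Fin 2) F} (h : A * A = 1) : A = 1 ∨ A = -1 := by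
  have e00 := congrArg (fun B : Matrix.SpecialLinearGroup (Fin 2) F => B.1 0 0) h
  have e01 := congrArg (fun B : Matrix.SpecialLinearGroup (Fin 2) F => B.1 0 1) h
  have e10 := congrArg (fun B : Matrix.SpecialLinearGroup (Fin 2) F => B.1 1 0) h
  have e11 := congrArg (fun B : Matrix.SpecialLinearGroup (Fin 2) F => B.1 1 1) h
  simp only [sl_mul, sl_one00, sl_one01, sl_one10, sl_one11] at e00 e01 e10 e11
  have hd := det_eq A
  -- `tr(A) A = 2`
  have t00 : (A.1 0 0 + A.1 1 1) * A.1 0 0 = 2 := by linear_combination e00 + hd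
  have t01 : (A.1 0 0 + A.1 1 1) * A.1 0 1 = 0 := by linear_combination e01
  have t10 : (A.1 0 0 + A.1 1 1) * A.1 1 0 = 0 := by linear_combination e10
  have t11 : (A.1 0 0 + A.1 1 1) * A.1 1 1 = 2 := by linear_combination e11 + hd
  have hne : A.1 0 0 + A.1 1 1 ≠ 0 := by
    intro h0
    rw [h0, zero_mul] at t00
    exact h2F t00.symm
  have h01 := (mul_eq_zero.1 t01).resolve_left hne
  have h10 := (mul_eq_zero.1 t10).resolve_left hne
  have heq : A.1 0 0 = A.1 1 1 := mul_left_cancel₀ hne (t00.trans t11.symm)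
  have hsq : A.1 0 0 * A.1 0 0 = 1 := by
    rw [h01, zero_mul, sub_zero, ← heq] at hd
    exact hd
  have hpm : (A.1 0 0 - 1) * (A.1 0 0 + 1) = 0 := by linear_combination hsq
  rcases mul_eq_zero.1 hpm with h5 | h5
  · left
    have h6 : A.1 0 0 = 1 := by linear_combination h5
    apply sl_ext
    · rw [sl_one00, h6]
    · rw [sl_one01, h01]
    · rw [sl_one10, h10]
    · rw [sl_one11, ← heq, h6]
  · right
    have h6 : A.1 0 0 = -1 := by linear_combination h5
    apply sl_ext
    · rw [neg_one_apply, sl_one00, h6]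
    · rw [neg_one_apply, sl_one01, h01, neg_zero]
    · rw [neg_one_apply, sl_one10, h10, neg_zero]
    · rw [neg_one_apply, sl_one11, ← heq, h6]

/-- involutions -/
theorem invol_form (h2F : (2 : F) ≠ 0) (h3 : (3 : F) = 0) {s : El F} (hs : orderOf s = 2) : s.z = 0 ∧ s.A = -1 := by
  have h1 : s * s = 1 := by
    have := pow_orderOf_eq_one s
    rwa [hs, pow_two] at this
  have hA : s.A * s.A = 1 := congrArg El.A h1
  rcases sl_sq h2F hA with h | h
  · exfalso
    have h4 : s ^ 3 = 1 := Qs_pow h3 (mem_Qs.2 h)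
    have h5 : s = 1 := by
      calc s = s ^ 3 * (s * s)⁻¹ := by group
        _ = 1 := by rw [h4, h1]; group
    rw [h5, orderOf_one] at hs
    norm_num at hs
  · refine ⟨?_, h⟩
    have e := congrArg El.z h1
    simp only [mul_z, h, neg_one_apply, sl_one00, sl_one01, sl_one10, sl_one11, one_z] at e
    have : 2 * s.z = 0 := by linear_combination e
    exact (mul_eq_zero.1 this).resolve_left h2F

theorem invol_eq (h2F : (2 : F) ≠ 0) (h3 : (3 : F) = 0) {s s' : El F} (hs : orderOf s = 2) (hs' : orderOf s' = 2)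
    (h : s * s' = s' * s) : s = s' := by
  obtain ⟨hz, hA⟩ := invol_form h2F h3 hs
  obtain ⟨hz', hA'⟩ := invol_form h2F h3 hs'
  have e1 := congrArg El.x h
  have e2 := congrArg El.y h
  simp only [mul_x, mul_y, hA, hA', neg_one_apply, sl_one00, sl_one01, sl_one10, sl_one11] at e1 e2
  ext1
  · rw [hz, hz']
  · have : 2 * (s.x - s'.x) = 0 := by linear_combination e1
    have := (mul_eq_zero.1 this).resolve_left h2F
    linear_combination this
  · have : 2 * (s.y - s'.y) = 0 := by linear_combination e2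
    have := (mul_eq_zero.1 this).resolve_left h2F
    linear_combination this
  · rw [hA, hA']

theorem orderOf_ts (h2F : (2 : F) ≠ 0) : orderOf (ts F) = 2 := by
  apply orderOf_eq_prime
  · rw [pow_two]; exact ts_sq
  · intro h
    have h1 : (-1 : Matrix.SpecialLinearGroup (Fin 2) F) = 1 := congrArg El.A h
    have h2 := congrArg (fun B : Matrix.SpecialLinearGroup (Fin 2) F => B.1 0 0) h1
    simp only [neg_one_apply, sl_one00] at h2
    apply h2F
    linear_combination -h2

/-- `El F` has the properties of `Setup` -/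
theorem setup [Finite F] {m : ℕ} (hF : Nat.card F = 3 ^ m) (hm : 1 < m) (h2F : (2 : F) ≠ 0) (h3 : (3 : F) = 0) :
    Setup (⊤ : Subgroup (El F)) (Zs F) (Qs F) (Ps F) (Ms F) (Ds F) (ts F) := by
  classical
  have hft := Fintype.ofFinite F
  have hm1 : 1 ≤ m := hm.le
  have hcF : 3 < Fintype.card F := by
    rw [← Nat.card_eq_fintype_card, hF]
    calc 3 < 3 ^ 2 := by norm_num
      _ ≤ 3 ^ m := Nat.pow_le_pow_right (by norm_num) hm
  have hperf := Cfsg.Agent.TwoFusion.SLTwoFacts.commutator_eq_top hcF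
  have memD : ∀ {d : El F}, d ∈ Ds F → ∃ A, emb F A = d := fun h => h
  refine
    { memZ := fun z => ?_
      cent := fun z hz _ g => ⟨fun _ => comm_of_Zs hz g, fun _ => mem_top g⟩
      Z3 := fun z hz => Qs_pow h3 (Zs_le_Qs hz)
      cardZ := ?_
      QC := le_top
      ZQ := Zs_le_Qs
      Qn := fun c _ v hv => (mat F).normal_ker.conj_mem v hv c
      Q3 := fun v hv => Qs_pow h3 hv
      Qmax := fun N _ hN hNp => le_Qs hF hm1 h3 (fun c n hn => hN c (mem_top c) n hn) hNp
      Qcent := fun c _ h => ?_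
      Qconj := fun v hv hvZ w hw hwZ => ?_
      Qcomm := fun v hv hvZ => ?_
      QP := Qs_le_Ps
      PC := le_top
      P3 := isPGroup_Ps h3
      Psyl := by rw [relIndex_top_right]; exact index_Ps hF hm1
      Pcent := fun x hx h => mem_Zs_of_comm_P h2F hx h
      MP := Ms_le_Ps
      ZM := Zs_le_Ms
      Mab := fun x hx y hy => Ms_comm hx hy
      M3 := fun x hx => Ms_pow h3 hx
      Muniq := fun M' hle hab _ hc => Ms_unique hF hm1 h2F hle hab hc
      elts := fun x hx h => elts h3 hx h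
      QM := ⟨q 0 1 0, q_mem _ _ _, ⟨rfl, 0, by rw [up_zero]; rfl⟩, fun h => one_ne_zero (q_mem_Zs_iff.1 h).1⟩
      centQM := fun v hvQ hvM hvZ c _ h => mem_Ms_of_comm_Q h2F hvQ hvM hvZ h
      centPM := fun v hv hvZ c hc h => mem_Ms_of_comm_M h2F hv hvZ hc h
      actM := fun u hu h => mem_Ms_of_act hu h
      commPQM := fun u hu v hvQ hvM => comm_mem_Zs hu hvQ hvM
      tC := mem_top _
      t2 := orderOf_ts h2F
      DC := le_top
      Dt := fun d hd => (ts_comm_iff h2F).2 (mem_Ds.1 hd).2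
      centt := fun c _ h => ?_
      DZ := ?_
      Dperf := ?_
      Dqs := fun E hE hn => ?_
      D3 := ?_
      Dcen := fun e he h h' => ?_
      tinv := fun v hv hvZ h => ?_
      invol := fun s _ s' _ hs hs' h => invol_eq h2F h3 hs hs' h }
  · rw [center_iff h2F]
    simp
  · rw [card_Zs, hF]
    exact pow_dvd_pow 3 hm
  · have h1 := h (q 0 1 0) (q_mem _ _ _)
    have h2 := h (q 0 0 1) (q_mem _ _ _)
    have hA := A_eq_one_of_comm h1 h2
    obtain ⟨hx, hy⟩ := xy_eq_zero_of_comm h2F hA h1 h2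
    exact ⟨hx, hy, hA⟩
  · obtain ⟨c, hc⟩ := Q_conj h2F hv hvZ hw hwZ
    exact ⟨c, mem_top c, hc⟩
  · -- commutators in `Q`
    have hq := eq_q hv
    have hne : v.x ≠ 0 ∨ v.y ≠ 0 := by
      by_contra hcon
      push Not at hcon
      exact hvZ ⟨hcon.1, hcon.2, mem_Qs.1 hv⟩
    rcases hne with hx | hy
    · refine ⟨q 0 0 1, q_mem _ _ _, ?_, ?_⟩
      · rw [hq, q_comm]
        intro h
        rw [← q_zero] at h
        have h1 := (q_inj h).1
        have h4 : 2 * v.x = 0 := by linear_combination h1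
        rcases mul_eq_zero.1 h4 with h5 | h5
        · exact h2F h5
        · exact hx h5
      · rw [hq, q_comm, q_mem_Zs_iff]
        exact ⟨rfl, rfl⟩
    · refine ⟨q 0 1 0, q_mem _ _ _, ?_, ?_⟩
      · rw [hq, q_comm]
        intro h
        rw [← q_zero] at h
        have h1 := (q_inj h).1
        have h4 : 2 * v.y = 0 := by linear_combination -h1
        rcases mul_eq_zero.1 h4 with h5 | h5
        · exact h2F h5
        · exact hy h5
      · rw [hq, q_comm, q_mem_Zs_iff]
        exact ⟨rfl, rfl⟩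
  · obtain ⟨hx, hy⟩ := (ts_comm_iff h2F).1 h
    refine ⟨q c.z 0 0, q_mem_Zs_iff.2 ⟨rfl, rfl⟩, emb F c.A, emb_mem _, ?_⟩
    ext1
    · simp
    · simp [hx]
    · simp [hy]
    · simp
  · rw [Subgroup.eq_bot_iff_forall]
    rintro x ⟨hxD, hxZ⟩
    obtain ⟨h1, h4, h5⟩ := mem_Ds.1 hxD
    ext1
    · exact h1
    · exact h4
    · exact h5
    · exact hxZ.2.2
  · unfold Ds
    rw [MonoidHom.range_eq_map, ← Subgroup.map_commutator]
    congr 1
  · have h1 : (E.comap (emb F)).Normal := by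
      refine ⟨fun n hn' g => ?_⟩
      rw [mem_comap, map_mul, map_mul, map_inv]
      exact hn _ (emb_mem g) _ hn'
    rcases sl_normal hcF _ h1 with h | h
    · left
      apply le_antisymm hE
      intro d hd
      obtain ⟨A, rfl⟩ := memD hd
      have h4 : A ∈ E.comap (emb F) := by rw [h]; exact mem_top A
      exact h4
    · right
      intro e he d hd
      obtain ⟨A, rfl⟩ := memD (hE he)
      obtain ⟨B, rfl⟩ := memD hd
      have h4 : A ∈ E.comap (emb F) := he
      have h5 := mem_center_iff.1 (h h4) B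
      rw [← map_mul, h5, map_mul]
  · refine ⟨Ps F ⊓ Ds F, inf_le_right, ?_, ?_, ?_, ?_⟩
    · rw [inf_relIndex_right]
      unfold Ds
      rw [← index_comap]
      have h1 := ((Ps F).comap (emb F)).card_mul_index
      have h4 : Nat.card ((Ps F).comap (emb F)) = Nat.card F := by
        refine Nat.card_congr
          { toFun := fun A => A.1.1 0 1
            invFun := fun r => ⟨up r, r, rfl⟩
            left_inv := ?_
            right_inv := fun r => rfl }
        rintro ⟨A, r, hr⟩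
        apply Subtype.ext
        show up (A.1 0 1) = A
        have : A = up r := hr
        rw [this, up01]
      rw [h4, Cfsg.Agent.ClassicalGeometry.PSL2Basic.card_SL2, ← Nat.card_eq_fintype_card] at h1
      have h5 : 0 < Nat.card F := Nat.card_pos
      have h6 := Nat.eq_of_mul_eq_mul_left h5 h1
      rw [h6, hF]
      intro h7
      have h8 : 3 ∣ (3 ^ m) ^ 2 := by
        rw [← pow_mul]
        exact dvd_pow_self 3 (by omega)
      have h9 : 1 ≤ (3 ^ m) ^ 2 := Nat.one_le_pow _ _ (by positivity)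
      have h10 : 3 ∣ 1 := by
        have := (Nat.dvd_sub h8 h7)
        rwa [Nat.sub_sub_self h9] at this
      norm_num at h10
    · intro h
      have h1 : emb F (up 1) ∈ Ps F ⊓ Ds F := ⟨⟨1, rfl⟩, emb_mem _⟩
      rw [h, mem_bot] at h1
      have h4 : up (1 : F) = 1 := congrArg El.A h1
      rw [← up_zero] at h4
      exact one_ne_zero (up_inj h4)
    · rintro x ⟨⟨r, hr⟩, hxD⟩ y ⟨⟨s, hs⟩, hyD⟩
      exact Ms_comm ⟨(mem_Ds.1 hxD).2.2, r, hr⟩ ⟨(mem_Ds.1 hyD).2.2, s, hs⟩
    · rintro x ⟨⟨r, hr⟩, hxD⟩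
      exact Ms_pow h3 ⟨(mem_Ds.1 hxD).2.2, r, hr⟩
  · obtain ⟨A, rfl⟩ := memD he
    have c1 : up 1 * A = A * up 1 := emb_injective (by rw [map_mul, map_mul]; exact h _ (emb_mem _))
    have c2 : w0 F * A = A * w0 F := emb_injective (by rw [map_mul, map_mul]; exact h _ (emb_mem _))
    have e1 := congrArg (fun B : Matrix.SpecialLinearGroup (Fin 2) F => B.1 0 0) c1
    have e2 := congrArg (fun B : Matrix.SpecialLinearGroup (Fin 2) F => B.1 1 1) c2
    have e3 := congrArg (fun B : Matrix.SpecialLinearGroup (Fin 2) F => B.1 1 0) c2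
    simp only [sl_mul, up00, up01, up10, up11] at e1
    simp only [sl_mul] at e2 e3
    simp [w0] at e2 e3
    have h10 : A.1 1 0 = 0 := by linear_combination e1
    have h01 : A.1 0 1 = 0 := by rw [h10] at e2; linear_combination e2
    have hAA : A * A = 1 := by
      have hd := det_eq A
      rw [h01, zero_mul, sub_zero, ← e3] at hd
      apply sl_ext
      · rw [sl_mul, h10, h01, sl_one00]; linear_combination hd
      · rw [sl_mul, h01, sl_one01]; ring
      · rw [sl_mul, h10, sl_one10]; ring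
      · rw [sl_mul, h10, h01, sl_one11, ← e3]; linear_combination hd
    rw [← map_pow] at h'
    have h4 : A ^ 3 = 1 := emb_injective (by rw [h', map_one])
    have h5 : A = 1 := by
      calc A = A ^ 3 * (A * A)⁻¹ := by group
        _ = 1 := by rw [h4, hAA]; group
    rw [h5, map_one]
  · have hq := eq_q hv
    have h1 : ts F * v * (ts F)⁻¹ = q v.z (-v.x) (-v.y) := by
      have h4 : ts F * v = q v.z (-v.x) (-v.y) * ts F := by
        unfold ts
        conv_lhs => rw [hq]
        rw [emb_q]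
        congr 2
        · simp [neg_one_apply, sl_one00, sl_one01]
        · simp [neg_one_apply, sl_one10, sl_one11]
      rw [h4, mul_inv_cancel_right]
    rw [h1] at h
    rw [hq, q_inv, q_mul, q_mem_Zs_iff, q_x, q_y] at h
    apply hvZ
    refine ⟨?_, ?_, mem_Qs.1 hv⟩
    · have : 2 * v.x = 0 := by linear_combination -h.1
      exact (mul_eq_zero.1 this).resolve_left h2F
    · have : 2 * v.y = 0 := by linear_combination -h.2
      exact (mul_eq_zero.1 this).resolve_left h2F

end El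

/-- transport of the properties of a group `X` to its image `C` in `G`, if `C` is the centralizer of all
non-identity elements of the image of the centre -/
theorem Setup.map {X G : Type*} [Group X] [Group G] {Z Q P M D : Subgroup X} {t : X}
    (S : Setup (⊤ : Subgroup X) Z Q P M D t) (f : X →* G) (hf : Function.Injective f)
    (hcent : ∀ z ∈ Z, z ≠ 1 → ∀ g : G, g * f z = f z * g → g ∈ f.range) :
    Setup f.range (Z.map f) (Q.map f) (P.map f) (M.map f) (D.map f) (f t) := by
  have mem : ∀ {A : Subgroup X} {x : X}, f x ∈ A.map f ↔ x ∈ A := by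
    intro A x
    exact Subgroup.mem_map_iff_mem hf
  have hZc : ∀ z ∈ Z, ∀ x : X, x * z = z * x := fun z hz x => ((S.memZ z).1 hz).2 x (mem_top x)
  have hr : f.range = (⊤ : Subgroup X).map f := MonoidHom.range_eq_map f
  have hple : ∀ A : Subgroup X, A.map f ≤ f.range := fun A => by
    rintro _ ⟨x, -, rfl⟩
    exact ⟨x, rfl⟩
  have hcomap : ∀ N : Subgroup G, N ≤ f.range → (N.comap f).map f = N := fun N hN => by
    rw [Subgroup.map_comap_eq, inf_eq_right.2 hN]
  refine
    { memZ := ?_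
      cent := ?_
      Z3 := ?_
      cardZ := ?_
      QC := hple _
      ZQ := Subgroup.map_mono S.ZQ
      Qn := ?_
      Q3 := ?_
      Qmax := ?_
      Qcent := ?_
      Qconj := ?_
      Qcomm := ?_
      QP := Subgroup.map_mono S.QP
      PC := hple _
      P3 := S.P3.map f
      Psyl := ?_
      Pcent := ?_
      MP := Subgroup.map_mono S.MP
      ZM := Subgroup.map_mono S.ZM
      Mab := ?_
      M3 := ?_
      Muniq := ?_
      elts := ?_
      QM := ?_
      centQM := ?_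
      centPM := ?_
      actM := ?_
      commPQM := ?_
      tC := ⟨t, rfl⟩
      t2 := by rw [orderOf_injective f hf]; exact S.t2
      DC := hple _
      Dt := ?_
      centt := ?_
      DZ := ?_
      Dperf := by rw [← Subgroup.map_commutator, S.Dperf]
      Dqs := ?_
      D3 := ?_
      Dcen := ?_
      tinv := ?_
      invol := ?_ }
  · -- memZ
    intro z
    constructor
    · rintro ⟨x, hx, rfl⟩
      refine ⟨⟨x, rfl⟩, ?_⟩
      rintro _ ⟨y, rfl⟩
      rw [← map_mul, hZc x hx y, map_mul]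
    · rintro ⟨⟨x, rfl⟩, h⟩
      rw [mem, S.memZ]
      refine ⟨mem_top x, fun c _ => hf ?_⟩
      rw [map_mul, map_mul]
      exact h _ ⟨c, rfl⟩
  · -- cent
    rintro _ ⟨z, hz, rfl⟩ h1 g
    have hz1 : z ≠ 1 := fun h => h1 (by rw [h, map_one])
    refine ⟨?_, hcent z hz hz1 g⟩
    rintro ⟨x, rfl⟩
    rw [← map_mul, hZc z hz x, map_mul]
  · rintro _ ⟨z, hz, rfl⟩
    rw [← map_pow, S.Z3 z hz, map_one]
  · rw [Nat.card_congr (Z.equivMapOfInjective f hf).symm.toEquiv]
    exact S.cardZ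
  · rintro _ ⟨c, rfl⟩ _ ⟨v, hv, rfl⟩
    rw [← map_inv, ← map_mul, ← map_mul, mem]
    exact S.Qn c (mem_top c) v hv
  · rintro _ ⟨z, hz, rfl⟩
    rw [← map_pow, S.Q3 z hz, map_one]
  · -- Qmax
    intro N hN hn hNp
    rw [← hcomap N hN]
    refine Subgroup.map_mono (S.Qmax _ le_top (fun c _ n hn' => ?_) (hNp.comap_of_injective f hf))
    rw [mem_comap, map_mul, map_mul, map_inv]
    exact hn _ ⟨c, rfl⟩ _ hn'
  · rintro _ ⟨c, rfl⟩ h
    rw [mem]
    refine S.Qcent c (mem_top c) fun v hv => hf ?_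
    rw [map_mul, map_mul]
    exact h _ ⟨v, hv, rfl⟩
  · rintro _ ⟨v, hv, rfl⟩ hvZ _ ⟨w, hw, rfl⟩ hwZ
    rw [mem] at hvZ hwZ
    obtain ⟨c, -, hc⟩ := S.Qconj v hv hvZ w hw hwZ
    exact ⟨f c, ⟨c, rfl⟩, by rw [← map_inv, ← map_mul, ← map_mul, hc]⟩
  · rintro _ ⟨v, hv, rfl⟩ hvZ
    rw [mem] at hvZ
    obtain ⟨w, hw, h1, h2⟩ := S.Qcomm v hv hvZ
    refine ⟨f w, ⟨w, hw, rfl⟩, ?_, ?_⟩
    · rw [← map_inv, ← map_inv, ← map_mul, ← map_mul, ← map_mul]
      intro h
      exact h1 (hf (by rw [h, map_one]))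
    · rw [← map_inv, ← map_inv, ← map_mul, ← map_mul, ← map_mul, mem]
      exact h2
  · rw [hr, relIndex_map_map_of_injective _ _ hf]
    exact S.Psyl
  · rintro _ ⟨x, hx, rfl⟩ h
    rw [mem]
    refine S.Pcent x hx fun y hy => hf ?_
    rw [map_mul, map_mul]
    exact h _ ⟨y, hy, rfl⟩
  · rintro _ ⟨x, hx, rfl⟩ _ ⟨y, hy, rfl⟩
    rw [← map_mul, S.Mab x hx y hy, map_mul]
  · rintro _ ⟨z, hz, rfl⟩
    rw [← map_pow, S.M3 z hz, map_one]
  · -- Muniq
    intro M' hM' hab h3 hcard
    have h1 : M' ≤ f.range := hM'.trans (hple _)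
    rw [← hcomap M' h1]
    congr 1
    refine S.Muniq _ ?_ ?_ ?_ ?_
    · intro x hx
      have h2 := hM' (hx : f x ∈ M')
      rwa [mem] at h2
    · intro x hx y hy
      apply hf
      rw [map_mul, map_mul]
      exact hab _ hx _ hy
    · intro x hx
      apply hf
      rw [map_pow, map_one]
      exact h3 _ hx
    · have h2 : Nat.card (M'.comap f) = Nat.card M' := by
        conv_rhs => rw [← hcomap M' h1]
        exact Nat.card_congr ((M'.comap f).equivMapOfInjective f hf).toEquiv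
      rw [h2, hcard]
      exact Nat.card_congr (M.equivMapOfInjective f hf).symm.toEquiv
  · rintro _ ⟨x, hx, rfl⟩ h
    rw [mem, mem]
    refine S.elts x hx (hf ?_)
    rw [map_pow, h, map_one]
  · obtain ⟨v, hv, hvM, hvZ⟩ := S.QM
    exact ⟨f v, ⟨v, hv, rfl⟩, ⟨v, hvM, rfl⟩, by rwa [mem]⟩
  · rintro _ ⟨v, hv, rfl⟩ hvM hvZ _ ⟨c, rfl⟩ h
    rw [mem] at hvM hvZ ⊢
    refine S.centQM v hv hvM hvZ c (mem_top c) (hf ?_)
    rw [map_mul, map_mul, h]
  · rintro _ ⟨v, hvM, rfl⟩ hvZ _ ⟨c, hc, rfl⟩ h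
    rw [mem] at hvZ ⊢
    refine S.centPM v hvM hvZ c hc (hf ?_)
    rw [map_mul, map_mul, h]
  · rintro _ ⟨u, hu, rfl⟩ h
    rw [mem]
    refine S.actM u hu fun m hm => ?_
    have h1 := h _ ⟨m, hm, rfl⟩
    rwa [← map_inv, ← map_inv, ← map_mul, ← map_mul, ← map_mul, mem] at h1
  · rintro _ ⟨u, hu, rfl⟩ _ ⟨v, hv, rfl⟩ hvM
    rw [mem] at hvM
    rw [← map_inv, ← map_inv, ← map_mul, ← map_mul, ← map_mul, mem]
    exact S.commPQM u hu v hv hvM
  · rintro _ ⟨d, hd, rfl⟩
    rw [← map_mul, S.Dt d hd, map_mul]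
  · rintro _ ⟨c, rfl⟩ h
    rw [← map_mul, ← map_mul] at h
    obtain ⟨z, hz, d, hd, e⟩ := S.centt c (mem_top c) (hf h)
    exact ⟨f z, ⟨z, hz, rfl⟩, f d, ⟨d, hd, rfl⟩, by rw [e, map_mul]⟩
  · rw [← Subgroup.map_inf _ _ f hf, S.DZ, Subgroup.map_bot]
  · -- Dqs
    intro E hE hn
    have h1 : E ≤ f.range := hE.trans (hple _)
    rcases S.Dqs (E.comap f) (fun x hx => by
        have h2 := hE (hx : f x ∈ E)
        rwa [mem] at h2) (fun d hd e he => by
        rw [mem_comap, map_mul, map_mul, map_inv]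
        exact hn _ ⟨d, hd, rfl⟩ _ he) with h | h
    · left
      rw [← hcomap E h1, h]
    · right
      intro e he d hd
      obtain ⟨x, rfl⟩ := h1 he
      obtain ⟨y, hy, rfl⟩ := hd
      rw [← map_mul, h x he y hy, map_mul]
  · obtain ⟨R, hRD, hRi, hRne, hRab, hR3⟩ := S.D3
    refine ⟨R.map f, Subgroup.map_mono hRD, ?_, ?_, ?_, ?_⟩
    · rwa [relIndex_map_map_of_injective _ _ hf]
    · intro h
      exact hRne ((Subgroup.map_eq_bot_iff_of_injective _ hf).1 h)
    · rintro _ ⟨x, hx, rfl⟩ _ ⟨y, hy, rfl⟩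
      rw [← map_mul, hRab x hx y hy, map_mul]
    · rintro _ ⟨x, hx, rfl⟩
      rw [← map_pow, hR3 x hx, map_one]
  · rintro _ ⟨e, he, rfl⟩ h h'
    rw [S.Dcen e he (fun d hd => hf (by rw [map_mul, map_mul]; exact h _ ⟨d, hd, rfl⟩))
      (hf (by rw [map_pow, h', map_one])), map_one]
  · rintro _ ⟨v, hv, rfl⟩ hvZ h
    rw [mem] at hvZ
    rw [← map_inv, ← map_inv, ← map_mul, ← map_mul, ← map_mul, mem] at h
    exact S.tinv v hv hvZ h
  · rintro _ ⟨s, rfl⟩ _ ⟨s', rfl⟩ hs hs' h
    rw [orderOf_injective f hf] at hs hs'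
    rw [S.invol s (mem_top s) s' (mem_top s') hs hs' (hf (by rw [map_mul, map_mul, h]))]

end Cfsg.Agent.H334.Symp
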