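import Mathlib
import Cfsg.Agent.H334.Symp.Abs

/-!
# Centralizers of elements of order three in the abstract `PSp(4, 3^m)` set-up with `N_G(M) ≤ N_G(P)`

`SCThm p` is the statement S5325: a strongly closed subgroup of an elementary abelian Sylow `p`-subgroup is a Sylow
`p`-subgroup of a normal subgroup. With `SCThm 3`: `C_G(v) ≤ N_G(Z)` for all `v ∈ C` of order 3, and
`C_G(t) ≤ N_G(Z)`.
-/

set_option autoImplicit false

universe u

namespace Cfsg.Agent.H334.Symp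

open Subgroup Cfsg

open scoped commutatorElement

/-- the statement S5325 for the prime `p` -/
def SCThm (p : ℕ) : Prop :=
  ∀ (Y : Type u) [Group Y] [Finite Y] (A : Sylow p Y), IsElementaryAbelian p (A : Subgroup Y) →
    ∀ B : Subgroup Y, IsStronglyClosed B (A : Subgroup Y) →
      ∃ N : Subgroup Y, N.Normal ∧ B ≤ N ∧ ¬ p ∣ B.relIndex N

variable {G : Type u} [Group G]

/-- a maximal `p`-subgroup `A` of `W` as a Sylow subgroup of `W` -/
def sylOf {p : ℕ} {W A : Subgroup G} (hAp : IsPGroup p A) (hAW : A ≤ W)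
    (hmax : ∀ T : Subgroup G, T ≤ W → IsPGroup p T → A ≤ T → T ≤ A) : Sylow p W :=
  { toSubgroup := A.subgroupOf W
    isPGroup' := hAp.comap_of_injective W.subtype W.subtype_injective
    is_maximal' := by
      intro T hT hle
      apply le_antisymm _ hle
      intro x hx
      have h1 : T.map W.subtype ≤ A := by
        refine hmax _ ?_ (hT.map _) ?_
        · rintro _ ⟨y, -, rfl⟩
          exact y.2
        · intro a ha
          exact ⟨⟨a, hAW ha⟩, hle (by exact ha), rfl⟩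
      exact h1 ⟨x, hx, rfl⟩ }

theorem coe_sylOf {p : ℕ} {W A : Subgroup G} (hAp : IsPGroup p A) (hAW : A ≤ W)
    (hmax : ∀ T : Subgroup G, T ≤ W → IsPGroup p T → A ≤ T → T ≤ A) :
    (sylOf hAp hAW hmax : Subgroup W) = A.subgroupOf W := rfl

/-- the statement for subgroups -/
theorem sc_sub [Finite G] {p : ℕ} (h : SCThm.{u} p) {W A B : Subgroup G} (hBA : B ≤ A) (hAW : A ≤ W)
    (hab : ∀ x ∈ A, ∀ y ∈ A, x * y = y * x) (hp : ∀ x ∈ A, x ^ p = 1)
    (hmax : ∀ T : Subgroup G, T ≤ W → IsPGroup p T → A ≤ T → T ≤ A)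
    (hsc : ∀ x ∈ B, ∀ g ∈ W, g * x * g⁻¹ ∈ A → g * x * g⁻¹ ∈ B) :
    ∃ N : Subgroup G, N ≤ W ∧ (∀ w ∈ W, ∀ n ∈ N, w * n * w⁻¹ ∈ N) ∧ B ≤ N ∧ ¬ p ∣ B.relIndex N := by
  have hAp : IsPGroup p A := isPGroup_of_pow hp
  obtain ⟨N, hN, hBN, hidx⟩ := h W (sylOf hAp hAW hmax) (by
    rw [coe_sylOf]
    refine ⟨⟨⟨fun a b => ?_⟩⟩, fun a ha => ?_⟩
    · apply Subtype.ext
      apply Subtype.ext
      exact hab _ a.2 _ b.2
    · apply Subtype.ext
      simpa using hp _ ha) (B.subgroupOf W) (by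
    rw [coe_sylOf]
    refine ⟨fun x hx => hBA hx, fun x hx g hg => hsc x hx g g.2 hg⟩)
  have hBW : B ≤ W := hBA.trans hAW
  refine ⟨N.map W.subtype, ?_, ?_, ?_, ?_⟩
  · rintro _ ⟨y, -, rfl⟩
    exact y.2
  · rintro w hw _ ⟨y, hy, rfl⟩
    exact ⟨⟨w, hw⟩ * y * ⟨w, hw⟩⁻¹, hN.conj_mem y hy ⟨w, hw⟩, rfl⟩
  · intro b hb
    exact ⟨⟨b, hBW hb⟩, hBN (by exact hb), rfl⟩
  · have h1 : N = (N.map W.subtype).subgroupOf W := by
      ext y
      constructor
      · intro hy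
        exact ⟨y, hy, rfl⟩
      · rintro ⟨y', hy', he⟩
        have : y' = y := Subtype.ext he
        rwa [← this]
    rw [h1, relIndex_subgroupOf (by rintro _ ⟨y, -, rfl⟩; exact y.2)] at hidx
    exact hidx

/-- fusion in an abelian Sylow subgroup `A` of `W` -/
theorem fusion [Finite G] {p : ℕ} [Fact p.Prime] {W A : Subgroup G} (hAp : IsPGroup p A) (hAW : A ≤ W)
    (hab : ∀ x ∈ A, ∀ y ∈ A, x * y = y * x)
    (hmax : ∀ T : Subgroup G, T ≤ W → IsPGroup p T → A ≤ T → T ≤ A) {x g : G} (hx : x ∈ A) (hg : g ∈ W)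
    (hgx : g * x * g⁻¹ ∈ A) : ∃ k ∈ W, (∀ a ∈ A, k * a * k⁻¹ ∈ A) ∧ g * x * g⁻¹ = k * x * k⁻¹ := by
  have hcomm : IsMulCommutative (sylOf hAp hAW hmax : Subgroup W) :=
    ⟨⟨fun a b => Subtype.ext (Subtype.ext (hab _ a.2 _ b.2))⟩⟩
  obtain ⟨n, hn, h⟩ := (sylOf hAp hAW hmax).conj_eq_normalizer_conj_of_mem ⟨x, hAW hx⟩ ⟨g, hg⟩⁻¹ hx (by
    rw [inv_inv]
    exact hgx)
  rw [inv_inv] at h
  refine ⟨(n : G)⁻¹, W.inv_mem n.2, fun a ha => ?_, ?_⟩
  · rw [inv_inv]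
    have h1 : n⁻¹ ∈ normalizer (((sylOf hAp hAW hmax : Sylow p W) : Subgroup W) : Set W) := inv_mem hn
    have h2 := ((mem_normalizer_iff.1 h1) ⟨a, hAW ha⟩).1 ha
    rw [inv_inv] at h2
    exact h2
  · rw [inv_inv]
    exact congrArg Subtype.val h

/-- the product of two commuting subgroups -/
def commProd (A B : Subgroup G) (h : ∀ a ∈ A, ∀ b ∈ B, a * b = b * a) : Subgroup G where
  carrier := {x | ∃ a ∈ A, ∃ b ∈ B, x = a * b}
  one_mem' := ⟨1, A.one_mem, 1, B.one_mem, by simp⟩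
  mul_mem' := by
    rintro _ _ ⟨a, ha, b, hb, rfl⟩ ⟨a', ha', b', hb', rfl⟩
    refine ⟨a * a', A.mul_mem ha ha', b * b', B.mul_mem hb hb', ?_⟩
    calc a * b * (a' * b') = a * (b * a') * b' := by group
      _ = a * (a' * b) * b' := by rw [h a' ha' b hb]
      _ = a * a' * (b * b') := by group
  inv_mem' := by
    rintro _ ⟨a, ha, b, hb, rfl⟩
    refine ⟨a⁻¹, A.inv_mem ha, b⁻¹, B.inv_mem hb, ?_⟩
    rw [mul_inv_rev, h _ (A.inv_mem ha) _ (B.inv_mem hb)]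

theorem mem_commProd {A B : Subgroup G} {h : ∀ a ∈ A, ∀ b ∈ B, a * b = b * a} {x : G} :
    x ∈ commProd A B h ↔ ∃ a ∈ A, ∃ b ∈ B, x = a * b := Iff.rfl

namespace Setup

variable {C Z Q P M D : Subgroup G} {t : G}

/-- subgroups of `C` with Sylow 3-subgroup `M` normalise `M` -/
theorem norm_of_syl [Finite G] (S : Setup C Z Q P M D t) {X : Subgroup G} (hXC : X ≤ C) (hMX : M ≤ X)
    (hmax : ∀ T : Subgroup G, T ≤ X → IsPGroup 3 T → M ≤ T → T ≤ M) : X ≤ normalizer (M : Set G) := by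
  have h1 : (Q ⊓ X) ⊔ M ≤ M := by
    refine hmax _ (sup_le inf_le_right hMX) (S.P3.to_le (sup_le (inf_le_left.trans S.QP) S.MP)) le_sup_right
  have h2 : Q ⊓ X ≤ M := le_sup_left.trans h1
  obtain ⟨v, hvQ, hvM, hvZ⟩ := S.QM
  intro x hx
  refine mem_normalizer_of_conj_le fun m hm => ?_
  have h3 : x * v * x⁻¹ ∈ Q := S.Qn x (hXC hx) v hvQ
  have h4 : x * v * x⁻¹ ∈ M := h2 ⟨h3, X.mul_mem (X.mul_mem hx (hMX hvM)) (X.inv_mem hx)⟩
  have h5 : x * v * x⁻¹ ∉ Z := by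
    intro h6
    have h7 := S.C_le_H (hXC hx)
    rw [mem_normalizer_iff] at h7
    exact hvZ ((h7 v).2 h6)
  refine S.centQM _ h3 h4 h5 _ (hXC (X.mul_mem (X.mul_mem hx (hMX hm)) (X.inv_mem hx))) ?_
  have h6 := S.Mab m hm v hvM
  calc x * m * x⁻¹ * (x * v * x⁻¹) = x * (m * v) * x⁻¹ := by group
    _ = x * (v * m) * x⁻¹ := by rw [h6]
    _ = x * v * x⁻¹ * (x * m * x⁻¹) := by group

/-- an element of `N_G(M) ∩ N_G(P) ∩ N_G(Z)` acting trivially on `M/Z` is in `C` -/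
theorem mem_C_of_act [Finite G] (S : Setup C Z Q P M D t) {k : G} (hkM : k ∈ normalizer (M : Set G))
    (hkP : k ∈ normalizer (P : Set G)) (hkZ : k ∈ normalizer (Z : Set G))
    (hk : ∀ m ∈ M, k * m * k⁻¹ * m⁻¹ ∈ Z) : k ∈ C := by
  obtain ⟨v, hvQ, hvM, hvZ⟩ := S.QM
  -- an element of `P` outside `M`
  obtain ⟨u, huP, huM⟩ : ∃ u ∈ P, u ∉ M := by
    by_contra hcon
    have h1 : ∀ u ∈ P, u ∈ M := by
      intro u hu
      by_contra h
      exact hcon ⟨u, hu, h⟩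
    exact hvZ (S.Pcent v (S.MP hvM) fun y hy => S.Mab v hvM y (h1 y hy))
  rw [mem_normalizer_iff] at hkM hkP hkZ
  have huC := S.PC huP
  have hz : u * v * u⁻¹ * v⁻¹ ∈ Z := S.commPQM u huP v hvQ hvM
  have hz1 : u * v * u⁻¹ * v⁻¹ ≠ 1 := by
    intro h
    apply huM
    refine S.centQM v hvQ hvM hvZ u huC ?_
    rw [mul_inv_eq_one, mul_inv_eq_iff_eq_mul] at h
    exact h
  -- `k u k⁻¹ u⁻¹ ∈ M`
  have hw : k * u * k⁻¹ * u⁻¹ ∈ M := by
    refine S.actM _ (P.mul_mem ((hkP u).1 huP) (P.inv_mem huP)) fun m hm => ?_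
    have h1 := S.P_norm_M (P.inv_mem huP)
    rw [mem_normalizer_iff] at h1
    have hm1 : u⁻¹ * m * u ∈ M := by
      have := (h1 m).1 hm
      rwa [inv_inv] at this
    -- `k⁻¹ m1 k = z1 m1`
    have hm2 : k⁻¹ * (u⁻¹ * m * u) * k ∈ M := by
      rw [hkM]
      have : k * (k⁻¹ * (u⁻¹ * m * u) * k) * k⁻¹ = u⁻¹ * m * u := by group
      rw [this]; exact hm1
    have hz1 := hk _ hm2
    have e1 : k * (k⁻¹ * (u⁻¹ * m * u) * k) * k⁻¹ * (k⁻¹ * (u⁻¹ * m * u) * k)⁻¹ =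
        (u⁻¹ * m * u) * (k⁻¹ * (u⁻¹ * m * u) * k)⁻¹ := by group
    rw [e1] at hz1
    -- `z1 := m1 (k⁻¹ m1 k)⁻¹ ∈ Z`
    obtain ⟨z1, hz1def⟩ : ∃ z1, z1 = (u⁻¹ * m * u) * (k⁻¹ * (u⁻¹ * m * u) * k)⁻¹ := ⟨_, rfl⟩
    rw [← hz1def] at hz1
    have e2 : k⁻¹ * (u⁻¹ * m * u) * k = z1⁻¹ * (u⁻¹ * m * u) := by rw [hz1def]; group
    have hzu := S.zcomm (Z.inv_mem hz1) huC
    -- `u (k⁻¹ m1 k) u⁻¹ = z1⁻¹ m`
    have e3 : u * (k⁻¹ * (u⁻¹ * m * u) * k) * u⁻¹ = z1⁻¹ * m := by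
      rw [e2]
      calc u * (z1⁻¹ * (u⁻¹ * m * u)) * u⁻¹ = (u * z1⁻¹) * u⁻¹ * m := by group
        _ = (z1⁻¹ * u) * u⁻¹ * m := by rw [hzu]
        _ = z1⁻¹ * m := by group
    have e4 : k * u * k⁻¹ * u⁻¹ * m * (k * u * k⁻¹ * u⁻¹)⁻¹ * m⁻¹ =
        (k * z1⁻¹ * k⁻¹) * (k * m * k⁻¹ * m⁻¹) := by
      calc k * u * k⁻¹ * u⁻¹ * m * (k * u * k⁻¹ * u⁻¹)⁻¹ * m⁻¹ =
          k * (u * (k⁻¹ * (u⁻¹ * m * u) * k) * u⁻¹) * k⁻¹ * m⁻¹ := by group
        _ = k * (z1⁻¹ * m) * k⁻¹ * m⁻¹ := by rw [e3]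
        _ = (k * z1⁻¹ * k⁻¹) * (k * m * k⁻¹ * m⁻¹) := by group
    rw [e4]
    exact Z.mul_mem ((hkZ _).1 (Z.inv_mem hz1)) (hk m hm)
  -- `k` centralises the commutator
  rw [S.cent _ hz hz1]
  obtain ⟨w, hwdef⟩ : ∃ w, w = k * u * k⁻¹ * u⁻¹ := ⟨_, rfl⟩
  rw [← hwdef] at hw
  have e1 : k * u * k⁻¹ = w * u := by rw [hwdef]; group
  have hz2 := hk v hvM
  obtain ⟨z2, hz2def⟩ : ∃ z2, z2 = k * v * k⁻¹ * v⁻¹ := ⟨_, rfl⟩
  rw [← hz2def] at hz2
  have e2 : k * v * k⁻¹ = z2 * v := by rw [hz2def]; group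
  have hwC := S.MC hw
  have c1 := S.zcomm hz2 (C.mul_mem hwC huC)
  have c2 := S.zcomm hz hwC
  have c3 := S.Mab w hw v hvM
  have key : k * (u * v * u⁻¹ * v⁻¹) * k⁻¹ = u * v * u⁻¹ * v⁻¹ := by
    calc k * (u * v * u⁻¹ * v⁻¹) * k⁻¹ =
        (k * u * k⁻¹) * (k * v * k⁻¹) * (k * u * k⁻¹)⁻¹ * (k * v * k⁻¹)⁻¹ := by group
      _ = (w * u) * (z2 * v) * (w * u)⁻¹ * (z2 * v)⁻¹ := by rw [e1, e2]
      _ = ((w * u) * z2) * v * (w * u)⁻¹ * v⁻¹ * z2⁻¹ := by group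
      _ = (z2 * (w * u)) * v * (w * u)⁻¹ * v⁻¹ * z2⁻¹ := by rw [c1]
      _ = z2 * (w * (u * v * u⁻¹ * v⁻¹) * (v * w⁻¹) * v⁻¹) * z2⁻¹ := by group
      _ = z2 * ((u * v * u⁻¹ * v⁻¹) * w * (v * w⁻¹) * v⁻¹) * z2⁻¹ := by rw [c2]
      _ = z2 * ((u * v * u⁻¹ * v⁻¹) * (w * v) * w⁻¹ * v⁻¹) * z2⁻¹ := by group
      _ = z2 * ((u * v * u⁻¹ * v⁻¹) * (v * w) * w⁻¹ * v⁻¹) * z2⁻¹ := by rw [c3]
      _ = z2 * (u * v * u⁻¹ * v⁻¹) * z2⁻¹ := by group
      _ = u * v * u⁻¹ * v⁻¹ * z2 * z2⁻¹ := by rw [S.zcomm hz (S.zC hz2)]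
      _ = u * v * u⁻¹ * v⁻¹ := by group
  calc k * (u * v * u⁻¹ * v⁻¹) = k * (u * v * u⁻¹ * v⁻¹) * k⁻¹ * k := by group
    _ = u * v * u⁻¹ * v⁻¹ * k := by rw [key]

/-- if `Z` is a Sylow 3-subgroup of `N` and `N ∩ N_G(Z) ≤ C` then `N ≤ C` (Burnside) -/
theorem le_C_of_burnside [Finite G] (S : Setup C Z Q P M D t) {N : Subgroup G} (hZN : Z ≤ N)
    (hidx : ¬ 3 ∣ Z.relIndex N) (hk : ∀ k ∈ N, k ∈ normalizer (Z : Set G) → k ∈ C) : N ≤ C := by
  have : Fact (Nat.Prime 3) := ⟨Nat.prime_three⟩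
  have hZp : IsPGroup 3 (Z.subgroupOf N) := S.Zp.comap_of_injective N.subtype N.subtype_injective
  let T : Sylow 3 N := hZp.toSylow (by rwa [← relIndex])
  have hT : (T : Subgroup N) = Z.subgroupOf N := rfl
  have hTn : normalizer ((T : Subgroup N) : Set N) ≤ centralizer ((T : Subgroup N) : Set N) := by
    intro k hkn
    rw [mem_normalizer_iff] at hkn
    have h1 : (k : G) ∈ normalizer (Z : Set G) := by
      refine mem_normalizer_of_conj_le fun z hz => ?_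
      exact (hkn ⟨z, hZN hz⟩).1 hz
    rw [mem_centralizer_iff]
    intro z hz
    apply Subtype.ext
    exact (S.zcomm (hz : (z : G) ∈ Z) (hk k k.2 h1)).symm
  have hc := MonoidHom.ker_transferSylow_isComplement' T hTn
  have hnd := MonoidHom.not_dvd_card_ker_transferSylow T hTn
  obtain ⟨K, hK⟩ : ∃ K, K = (MonoidHom.transferSylow T hTn).ker := ⟨_, rfl⟩
  have hKn : K.Normal := by rw [hK]; infer_instance
  rw [← hK] at hc hnd
  have hKC : K.map N.subtype ≤ C := by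
    refine S.le_C_of_coprime ?_ ?_
    · rw [Nat.Prime.coprime_iff_not_dvd Nat.prime_three,
        Nat.card_congr (K.equivMapOfInjective _ N.subtype_injective).symm.toEquiv]
      exact hnd
    · rintro z hz _ ⟨x, hx, rfl⟩
      exact ⟨⟨z, hZN hz⟩ * x * ⟨z, hZN hz⟩⁻¹, hKn.conj_mem x hx _, rfl⟩
  intro n hn
  obtain ⟨⟨k, z⟩, hkz, -⟩ := hc.existsUnique ⟨n, hn⟩
  have h1 : (n : G) = ((k : N) : G) * ((z : N) : G) := by
    have := congrArg (fun x : N => (x : G)) hkz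
    simpa using this.symm
  rw [h1]
  have h2 : ((z : N) : G) ∈ Z := z.2
  exact C.mul_mem (hKC ⟨k, k.2, rfl⟩) (S.zC h2)

/-- **subgroups with Sylow 3-subgroup `M` normalise `Z`** -/
theorem le_H_of_syl [Finite G] (S : Setup C Z Q P M D t) (hSC : SCThm.{u} 3)
    (hN : normalizer (M : Set G) ≤ normalizer (P : Set G)) {W : Subgroup G} (hMW : M ≤ W)
    (hmax : ∀ T : Subgroup G, T ≤ W → IsPGroup 3 T → M ≤ T → T ≤ M) : W ≤ normalizer (Z : Set G) := by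
  have : Fact (Nat.Prime 3) := ⟨Nat.prime_three⟩
  obtain ⟨N, hNW, hNn, hZN, hidx⟩ := sc_sub hSC S.ZM hMW S.Mab S.M3 hmax (by
    intro x hx g _ hgx
    exact S.strongly_closed hN hx (S.MP hgx))
  have hX : C ⊓ W ≤ normalizer (M : Set G) :=
    S.norm_of_syl inf_le_left (le_inf S.MC hMW) fun T hT => hmax T (hT.trans inf_le_right)
  have hNC : N ≤ C := by
    refine S.le_C_of_burnside hZN hidx fun k hkN hkZ => ?_
    have hkW := hNW hkN
    have hkC := S.mem_H_iff.1 hkZ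
    -- `k` normalises `M`
    have hkM : k ∈ normalizer (M : Set G) := by
      refine mem_normalizer_of_conj_le fun x hx => ?_
      have h1 : M.map (MulAut.conj k).toMonoidHom ≤ C ⊓ W := by
        rintro _ ⟨y, hy, rfl⟩
        refine ⟨(hkC y).1 (S.MC hy), ?_⟩
        exact W.mul_mem (W.mul_mem hkW (hMW hy)) (W.inv_mem hkW)
      have h2 : IsPGroup 3 (M ⊔ M.map (MulAut.conj k).toMonoidHom : Subgroup G) := by
        exact IsPGroup.to_sup_of_normal_left' S.Mp (S.Mp.map _) (h1.trans hX)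
      have h3 := hmax _ (sup_le hMW (h1.trans inf_le_right)) h2 le_sup_left
      exact h3 (le_sup_right (a := M) (conj_mem_map hx))
    refine S.mem_C_of_act hkM (hN hkM) hkZ fun m hm => ?_
    -- `[k, m] ∈ N ∩ M ≤ Z`
    have h1 : k * m * k⁻¹ * m⁻¹ ∈ N := by
      have h2 : k * m * k⁻¹ * m⁻¹ = k * (m * k⁻¹ * m⁻¹) := by group
      rw [h2]
      exact N.mul_mem hkN (hNn m (hMW hm) _ (N.inv_mem hkN))
    have h2 : k * m * k⁻¹ * m⁻¹ ∈ M := M.mul_mem (((mem_normalizer_iff.1 hkM) m).1 hm) (M.inv_mem hm)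
    have h3 : N ⊓ M ≤ Z := le_of_syl (le_inf hZN S.ZM) inf_le_left (S.Mp.to_le inf_le_right) hidx
    exact h3 ⟨h1, h2⟩
  -- `Z` is normalised by `W`
  intro w hw
  refine mem_normalizer_of_conj_le fun z hz => ?_
  have h1 : Z.map (MulAut.conj w).toMonoidHom ≤ N := by
    rintro _ ⟨y, hy, rfl⟩
    exact hNn w hw y (hZN hy)
  have h2 : IsPGroup 3 (Z ⊔ Z.map (MulAut.conj w).toMonoidHom : Subgroup G) :=
    IsPGroup.to_sup_of_normal_left' S.Zp (S.Zp.map _) ((h1.trans hNC).trans S.C_le_H)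
  have h3 := le_of_syl (le_sup_left) (sup_le hZN h1) h2 hidx
  exact h3 (le_sup_right (a := Z) (conj_mem_map hz))

/-- the subgroup generated by an element with `x ^ 3 = 1` is a 3-group -/
theorem zpowers_isPGroup {G : Type*} [Group G] {x : G} (hx : x ^ 3 = 1) : IsPGroup 3 (zpowers x) := by
  refine isPGroup_of_pow fun y hy => ?_
  obtain ⟨k, rfl⟩ := mem_zpowers_iff.1 hy
  rw [← zpow_natCast, ← zpow_mul, mul_comm, zpow_mul, zpow_natCast, hx, one_zpow]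

/-- **centralizers of elements of order 3 of `C` normalise `Z`** -/
theorem centralizer_le_H [Finite G] (S : Setup C Z Q P M D t) (hSC : SCThm.{u} 3)
    (hN : normalizer (M : Set G) ≤ normalizer (P : Set G)) {v : G} (hv : v ∈ C) (hv3 : v ^ 3 = 1) (hv1 : v ≠ 1)
    {g : G} (hg : g * v = v * g) : g ∈ normalizer (Z : Set G) := by
  -- elements of `M - Z`
  have main : ∀ v ∈ M, v ∉ Z → ∀ g : G, g * v = v * g → g ∈ normalizer (Z : Set G) := by
    intro v hv hvZ g hg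
    have h1 := S.le_H_of_syl hSC hN (W := centralizer ({v} : Set G)) ?_ ?_
    · apply h1
      rw [mem_centralizer_iff]
      rintro y rfl
      exact hg.symm
    · intro m hm
      rw [mem_centralizer_iff]
      rintro y rfl
      exact S.Mab _ hv m hm
    · intro T hT hTp hMT
      have hTC := S.le_C_of_Z_le hN hTp (S.ZM.trans hMT)
      obtain ⟨c, hc, hcT⟩ := S.conjPC hTC hTp
      have hcM : c ∈ normalizer (M : Set G) := S.norm_M fun x hx => hcT x (hMT hx)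
      have hcP := hN hcM
      rw [mem_normalizer_iff] at hcP
      intro x hx
      refine S.centPM v hv hvZ x ((hcP x).2 (hcT x hx)) ?_
      exact ((mem_centralizer_iff.1 (hT hx)) v rfl).symm
  -- move into `P`
  obtain ⟨c, hc, hcv⟩ := S.conjPC (by rwa [zpowers_le]) (zpowers_isPGroup hv3)
  have h1 := hcv v (mem_zpowers v)
  have h2 : (c * v * c⁻¹) ^ 3 = 1 := by rw [conj_pow, hv3]; simp
  by_cases hvZ : v ∈ Z
  · exact S.C_le_H ((S.cent v hvZ hv1 g).2 hg)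
  have hcH := S.C_le_H hc
  have fin : ∀ c ∈ C, c * v * c⁻¹ ∈ M → g ∈ normalizer (Z : Set G) := by
    intro c hc hM
    have hcH := S.C_le_H hc
    have h3 : c * v * c⁻¹ ∉ Z := by
      intro h4
      rw [mem_normalizer_iff] at hcH
      exact hvZ ((hcH v).2 h4)
    have h4 := main _ hM h3 (c * g * c⁻¹) (by
      calc c * g * c⁻¹ * (c * v * c⁻¹) = c * (g * v) * c⁻¹ := by group
        _ = c * (v * g) * c⁻¹ := by rw [hg]
        _ = c * v * c⁻¹ * (c * g * c⁻¹) := by group)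
    have h5 : g = c⁻¹ * (c * g * c⁻¹) * c := by group
    rw [h5]
    exact mul_mem (mul_mem (inv_mem hcH) h4) hcH
  rcases S.elts _ h1 h2 with h | h
  · exact fin c hc h
  · obtain ⟨w, hwQ, hwM, hwZ⟩ := S.QM
    have h3 : c * v * c⁻¹ ∉ Z := by
      intro h4
      rw [mem_normalizer_iff] at hcH
      exact hvZ ((hcH v).2 h4)
    obtain ⟨c', hc', hw⟩ := S.Qconj _ h h3 w hwQ hwZ
    refine fin (c' * c) (C.mul_mem hc' hc) ?_
    have h4 : c' * c * v * (c' * c)⁻¹ = c' * (c * v * c⁻¹) * c'⁻¹ := by group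
    rw [h4, hw]
    exact hwM

/-- **the centralizer of `t` normalises `Z`** -/
theorem centralizer_t_le_H [Finite G] (S : Setup C Z Q P M D t) (hSC : SCThm.{u} 3)
    (hN : normalizer (M : Set G) ≤ normalizer (P : Set G)) {y : G} (hy : y * t = t * y) :
    y ∈ normalizer (Z : Set G) := by
  have h3p : Fact (Nat.Prime 3) := ⟨Nat.prime_three⟩
  obtain ⟨R, hRD, hRidx, hRne, hRab, hR3⟩ := S.D3
  obtain ⟨Y, hYdef⟩ : ∃ Y, Y = centralizer ({t} : Set G) := ⟨_, rfl⟩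
  have memY : ∀ g, g ∈ Y ↔ g * t = t * g := by
    intro g
    rw [hYdef, mem_centralizer_iff]
    exact ⟨fun h => (h t rfl).symm, fun h x hx => by rw [Set.mem_singleton_iff.1 hx]; exact h.symm⟩
  have hRC : R ≤ C := hRD.trans S.DC
  have hZY : Z ≤ Y := fun z hz => (memY z).2 (S.zcomm hz S.tC).symm
  have hDY : D ≤ Y := fun d hd => (memY d).2 (S.Dt d hd)
  have hZRn : Z ≤ normalizer (R : Set G) := by
    intro z hz
    refine mem_normalizer_of_conj_le fun r hr => ?_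
    have : z * r * z⁻¹ = r := by rw [← S.zcomm hz (hRC hr), mul_inv_cancel_right]
    rw [this]; exact hr
  -- the Sylow subgroup `A = Z R` of `Y`
  have hZR : ∀ a ∈ Z, ∀ b ∈ R, a * b = b * a := fun a ha b hb => (S.zcomm ha (hRC hb)).symm
  obtain ⟨A, hAdef⟩ : ∃ A, A = commProd Z R hZR := ⟨_, rfl⟩
  have memA : ∀ x, x ∈ A ↔ ∃ z ∈ Z, ∃ r ∈ R, x = z * r := by
    intro x
    rw [hAdef, mem_commProd]
  have hZA : Z ≤ A := fun z hz => (memA z).2 ⟨z, hz, 1, R.one_mem, (mul_one z).symm⟩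
  have hRA : R ≤ A := fun r hr => (memA r).2 ⟨1, Z.one_mem, r, hr, (one_mul r).symm⟩
  have hAC : A ≤ C := by
    intro x hx
    obtain ⟨z, hz, r, hr, rfl⟩ := (memA x).1 hx
    exact C.mul_mem (S.zC hz) (hRC hr)
  have hAY : A ≤ Y := by
    intro x hx
    obtain ⟨z, hz, r, hr, rfl⟩ := (memA x).1 hx
    exact Y.mul_mem (hZY hz) (hDY (hRD hr))
  have hAab : ∀ x ∈ A, ∀ y ∈ A, x * y = y * x := by
    intro x hx y hy
    obtain ⟨z, hz, r, hr, rfl⟩ := (memA x).1 hx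
    obtain ⟨z', hz', r', hr', rfl⟩ := (memA y).1 hy
    have c1 := S.zcomm hz (hRC hr)
    have c2 := S.zcomm hz' (hRC hr')
    have c3 := S.zcomm hz (S.zC hz')
    have c4 := hRab r hr r' hr'
    have c5 := S.zcomm hz' (hRC hr)
    have c6 := S.zcomm hz (hRC hr')
    calc z * r * (z' * r') = z * (r * z') * r' := by group
      _ = z * (z' * r) * r' := by rw [c5]
      _ = (z' * z) * (r * r') := by rw [c3]; group
      _ = z' * (z * r') * r := by rw [c4]; group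
      _ = z' * (r' * z) * r := by rw [c6]
      _ = z' * r' * (z * r) := by group
  have hA3 : ∀ x ∈ A, x ^ 3 = 1 := by
    intro x hx
    obtain ⟨z, hz, r, hr, rfl⟩ := (memA x).1 hx
    rw [(show Commute z r from (S.zcomm hz (hRC hr)).symm).mul_pow, S.Z3 z hz, hR3 r hr, one_mul]
  have hAp : IsPGroup 3 A := isPGroup_of_pow hA3
  have hRZ : ∀ x ∈ R, x ∈ Z → x = 1 := by
    intro x hx hxZ
    have h1 : x ∈ D ⊓ Z := ⟨hRD hx, hxZ⟩
    rwa [S.DZ, mem_bot] at h1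
  have hmax : ∀ T : Subgroup G, T ≤ Y → IsPGroup 3 T → A ≤ T → T ≤ A := by
    intro T hTY hT hAT x hx
    have hTC := S.le_C_of_Z_le hN hT (hZA.trans hAT)
    obtain ⟨z, hz, d, hd, rfl⟩ := S.centt x (hTC hx) ((memY x).1 (hTY hx))
    have h1 : T ⊓ D ≤ R := le_of_syl (le_inf (hRA.trans hAT) hRD) inf_le_right (hT.to_le inf_le_left) hRidx
    refine (memA _).2 ⟨z, hz, d, h1 ⟨?_, hd⟩, rfl⟩
    have h2 : d = z⁻¹ * (z * d) := by group
    rw [h2]
    exact T.mul_mem (T.inv_mem (hAT (hZA hz))) hx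
  obtain ⟨N1, hN1Y, hN1n, hZN1, hidx1⟩ := sc_sub hSC hZA hAY hAab hA3 hmax
    (fun x hx g _ hgx => S.strongly_closed' hN hx (hAC hgx))
  obtain ⟨N2, hN2Y, hN2n, hRN2, hidx2⟩ := sc_sub hSC hRA hAY hAab hA3 hmax (by
    intro r hr g hg hgr
    obtain ⟨k, hkY, hkA, hk⟩ := fusion hAp hAY hAab hmax (hRA hr) hg hgr
    have hkZ : k ∈ normalizer (Z : Set G) := mem_normalizer_of_conj_le fun z hz =>
      S.strongly_closed' hN hz (hAC (hkA z (hZA hz)))
    have hkC := S.mem_H_iff.1 hkZ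
    have hkD : D.map (MulAut.conj k).toMonoidHom ≤ D := by
      have h1 : D.map (MulAut.conj k).toMonoidHom = ⁅D, D⁆.map (MulAut.conj k).toMonoidHom := by rw [S.Dperf]
      rw [h1, Subgroup.map_commutator, Subgroup.commutator_le]
      have h2 : ∀ a ∈ D.map (MulAut.conj k).toMonoidHom, ∃ z ∈ Z, ∃ d ∈ D, a = z * d := by
        rintro _ ⟨d, hd, rfl⟩
        refine S.centt _ ((hkC d).1 (S.DC hd)) ?_
        exact (memY _).1 (Y.mul_mem (Y.mul_mem hkY (hDY hd)) (Y.inv_mem hkY))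
      intro a ha b hb
      obtain ⟨z, hz, d, hd, rfl⟩ := h2 a ha
      obtain ⟨z', hz', d', hd', rfl⟩ := h2 b hb
      have c1 := S.zcomm hz (S.DC hd)
      have c2 := S.zcomm hz' (S.DC hd')
      have c3 := S.zcomm hz (S.zC hz')
      have c4 := S.zcomm hz (S.DC hd')
      have c5 := S.zcomm hz' (S.DC hd)
      have h3 : ⁅z * d, z' * d'⁆ = ⁅d, d'⁆ := by
        have e1 : z * d * (z' * d') = z * z' * (d * d') := by
          calc z * d * (z' * d') = z * (d * z') * d' := by group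
            _ = z * (z' * d) * d' := by rw [c5]
            _ = z * z' * (d * d') := by group
        have e2 : z' * d' * (z * d) = z' * z * (d' * d) := by
          calc z' * d' * (z * d) = z' * (d' * z) * d := by group
            _ = z' * (z * d') * d := by rw [c4]
            _ = z' * z * (d' * d) := by group
        have c6 : z * z' * (d * d') = (d * d') * (z * z') :=
          (S.zcomm (Z.mul_mem hz hz') (C.mul_mem (S.DC hd) (S.DC hd'))).symm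
        have c8 : (d' * d)⁻¹ * (z' * z) = (z' * z) * (d' * d)⁻¹ :=
          S.zcomm (Z.mul_mem hz' hz) (C.inv_mem (C.mul_mem (S.DC hd') (S.DC hd)))
        rw [commutatorElement_def, commutatorElement_def]
        calc z * d * (z' * d') * (z * d)⁻¹ * (z' * d')⁻¹ = (z * d * (z' * d')) * (z' * d' * (z * d))⁻¹ := by group
          _ = (z * z' * (d * d')) * (z' * z * (d' * d))⁻¹ := by rw [e1, e2]
          _ = (d * d') * (z * z') * (z' * z * (d' * d))⁻¹ := by rw [c6]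
          _ = (d * d') * (z' * z) * (z' * z * (d' * d))⁻¹ := by rw [c3]
          _ = (d * d') * ((z' * z) * (d' * d)⁻¹) * (z' * z)⁻¹ := by group
          _ = (d * d') * ((d' * d)⁻¹ * (z' * z)) * (z' * z)⁻¹ := by rw [c8]
          _ = d * d' * d⁻¹ * d'⁻¹ := by group
      rw [h3]
      rw [← S.Dperf]
      exact Subgroup.commutator_mem_commutator hd hd'
    have h1 : g * r * g⁻¹ ∈ D := by
      rw [hk]
      exact hkD (conj_mem_map (hRD hr))
    obtain ⟨z, hz, r', hr', he⟩ := (memA _).1 hgr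
    have h2 : z ∈ D ⊓ Z := by
      refine ⟨?_, hz⟩
      have h3 : z = g * r * g⁻¹ * r'⁻¹ := by rw [he]; group
      rw [h3]
      exact D.mul_mem h1 (D.inv_mem (hRD hr'))
    rw [S.DZ, mem_bot] at h2
    rw [he, h2, one_mul]
    exact hr')
  -- `E = N1 ∩ N2` is a 3'-group
  obtain ⟨E, hEdef⟩ : ∃ E, E = N1 ⊓ N2 := ⟨_, rfl⟩
  have hE1 : E ≤ N1 := by rw [hEdef]; exact inf_le_left
  have hE2 : E ≤ N2 := by rw [hEdef]; exact inf_le_right
  have hEn : ∀ w ∈ Y, ∀ n ∈ E, w * n * w⁻¹ ∈ E := by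
    intro w hw n hn
    rw [hEdef]
    exact ⟨hN1n w hw n (hE1 hn), hN2n w hw n (hE2 hn)⟩
  have hEx : ∀ x ∈ E, x ^ 3 = 1 → x = 1 := by
    intro x hx hx3
    obtain ⟨n, hn, h1⟩ := exists_conj_le S.Zp hidx1 (T := zpowers x) (by rw [zpowers_le]; exact hE1 hx)
      (zpowers_isPGroup hx3)
    have h2 := h1 x (mem_zpowers x)
    have h3 : n * x * n⁻¹ ∈ N2 := hN2n n (hN1Y hn) x (hE2 hx)
    have h3' : (n * x * n⁻¹) ^ 3 = 1 := by rw [conj_pow, hx3]; simp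
    obtain ⟨n', hn', h4⟩ := exists_conj_le (hAp.to_le hRA) hidx2 (T := zpowers (n * x * n⁻¹))
      (by rw [zpowers_le]; exact h3) (zpowers_isPGroup h3')
    have h5 := h4 _ (mem_zpowers _)
    have h6 := S.strongly_closed' hN h2 (hRC h5)
    have h7 := hRZ _ h5 h6
    have h8 : x = (n' * n)⁻¹ * (n' * (n * x * n⁻¹) * n'⁻¹) * (n' * n) := by group
    rw [h8, h7]; group
  have hE3 : Nat.Coprime 3 (Nat.card E) := by
    rw [Nat.Prime.coprime_iff_not_dvd Nat.prime_three]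
    intro hdvd
    obtain ⟨x, hx⟩ := exists_prime_orderOf_dvd_card' 3 hdvd
    have h1 : (x : G) ^ 3 = 1 := by
      rw [← hx, ← Subgroup.orderOf_coe, pow_orderOf_eq_one]
    have h2 : x = 1 := Subtype.ext (hEx _ x.2 h1)
    rw [h2, orderOf_one] at hx
    norm_num at hx
  have hEC : E ≤ C := S.le_C_of_coprime hE3 fun z hz => hEn z (hZY hz)
  -- `E` is centralised by `D`
  have hED : ∀ e ∈ E, e ∈ D → ∀ d ∈ D, d * e = e * d := by
    rcases S.Dqs (E ⊓ D) inf_le_right (fun d hd e he => ⟨hEn d (hDY hd) e he.1,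
      D.mul_mem (D.mul_mem hd he.2) (D.inv_mem hd)⟩) with h | h
    · exfalso
      apply hRne
      rw [Subgroup.eq_bot_iff_forall]
      intro r hr
      refine hEx r ?_ (hR3 r hr)
      have h1 : r ∈ E ⊓ D := by rw [h]; exact hRD hr
      exact h1.1
    · intro e he heD
      exact h e ⟨he, heD⟩
  have hED' : ⁅E, D⁆ ≤ E ⊓ D := by
    rw [Subgroup.commutator_le]
    intro e he d hd
    refine ⟨?_, ?_⟩
    · rw [commutatorElement_def]
      have h1 : e * d * e⁻¹ * d⁻¹ = e * (d * e⁻¹ * d⁻¹) := by group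
      rw [h1]
      exact E.mul_mem he (hEn d (hDY hd) _ (E.inv_mem he))
    · obtain ⟨z, hz, d0, hd0, rfl⟩ := S.centt e (hEC he) ((memY e).1 (hN1Y (hE1 he)))
      rw [commutatorElement_def]
      have c1 := S.zcomm hz (C.mul_mem (C.mul_mem (S.DC hd0) (S.DC hd)) (C.inv_mem (S.DC hd0)))
      have h1 : z * d0 * d * (z * d0)⁻¹ * d⁻¹ = d0 * d * d0⁻¹ * d⁻¹ := by
        calc z * d0 * d * (z * d0)⁻¹ * d⁻¹ = (z * (d0 * d * d0⁻¹)) * z⁻¹ * d⁻¹ := by group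
          _ = ((d0 * d * d0⁻¹) * z) * z⁻¹ * d⁻¹ := by rw [c1]
          _ = d0 * d * d0⁻¹ * d⁻¹ := by group
      rw [h1]
      exact D.mul_mem (D.mul_mem (D.mul_mem hd0 hd) (D.inv_mem hd0)) (D.inv_mem hd)
  have hEDD : ⁅⁅E, D⁆, D⁆ = ⊥ := by
    rw [Subgroup.commutator_eq_bot_iff_le_centralizer]
    intro x hx
    rw [mem_centralizer_iff]
    intro d hd
    have h1 := hED' hx
    exact hED x h1.1 h1.2 d hd
  have hDE : ⁅D, E⁆ = ⊥ := by
    have h1 := Subgroup.commutator_commutator_eq_bot_of_rotate (H₁ := D) (H₂ := D) (H₃ := E)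
      (by rw [Subgroup.commutator_comm D E]; exact hEDD) hEDD
    rwa [S.Dperf] at h1
  -- `D ≤ N2`
  have hDN2 : D ≤ N2 := by
    rcases S.Dqs (D ⊓ N2) inf_le_left (fun d hd e he => ⟨D.mul_mem (D.mul_mem hd he.1) (D.inv_mem hd),
      hN2n d (hDY hd) e he.2⟩) with h | h
    · rw [← h]; exact inf_le_right
    · exfalso
      apply hRne
      rw [Subgroup.eq_bot_iff_forall]
      intro r hr
      exact S.Dcen r (hRD hr) (h r ⟨hRD hr, hRN2 hr⟩) (hR3 r hr)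
  have hN1D : ⁅N1, D⁆ ≤ E := by
    rw [Subgroup.commutator_le]
    intro n hn d hd
    rw [commutatorElement_def, hEdef]
    refine ⟨?_, ?_⟩
    · have h1 : n * d * n⁻¹ * d⁻¹ = n * (d * n⁻¹ * d⁻¹) := by group
      rw [h1]
      exact N1.mul_mem hn (hN1n d (hDY hd) _ (N1.inv_mem hn))
    · exact N2.mul_mem (hN2n n (hN1Y hn) d (hDN2 hd)) (N2.inv_mem (hDN2 hd))
  have hN1DD : ⁅⁅N1, D⁆, D⁆ = ⊥ := by
    rw [← le_bot_iff, ← hDE, Subgroup.commutator_comm D E]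
    exact Subgroup.commutator_mono hN1D le_rfl
  have hDN1 : ⁅D, N1⁆ = ⊥ := by
    have h1 := Subgroup.commutator_commutator_eq_bot_of_rotate (H₁ := D) (H₂ := D) (H₃ := N1)
      (by rw [Subgroup.commutator_comm D N1]; exact hN1DD) hN1DD
    rwa [S.Dperf] at h1
  -- `N1 ≤ H`
  obtain ⟨r, hr, hr1⟩ : ∃ r ∈ R, r ≠ 1 := by
    by_contra hcon
    apply hRne
    rw [Subgroup.eq_bot_iff_forall]
    intro r hr
    by_contra h
    exact hcon ⟨r, hr, h⟩
  have hN1H : N1 ≤ normalizer (Z : Set G) := by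
    intro n hn
    refine S.centralizer_le_H hSC hN (hRC hr) (hR3 r hr) hr1 ?_
    rw [Subgroup.commutator_eq_bot_iff_le_centralizer] at hDN1
    exact (mem_centralizer_iff.1 (hDN1 (hRD hr))) n hn
  have hyY := (memY y).2 hy
  refine mem_normalizer_of_conj_le fun z hz => ?_
  have h1 : Z.map (MulAut.conj y).toMonoidHom ≤ N1 := by
    rintro _ ⟨x, hx, rfl⟩
    exact hN1n y hyY x (hZN1 hx)
  have h2 : IsPGroup 3 (Z ⊔ Z.map (MulAut.conj y).toMonoidHom : Subgroup G) :=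
    IsPGroup.to_sup_of_normal_left' S.Zp (S.Zp.map _) (h1.trans hN1H)
  have h3 := le_of_syl (le_sup_left) (sup_le hZN1 h1) h2 hidx1
  exact h3 (le_sup_right (a := Z) (conj_mem_map hz))

end Setup

end Cfsg.Agent.H334.Symp
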