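import Mathlib
import Cfsg.Agent.H339.SpIso
import Cfsg.Agent.H334.Symp.ModelSetup

/-!
# The centralizer of a `p`-central element of order `p` of `PSp(4,q)` is `El F`
-/

set_option autoImplicit false
set_option linter.unusedSimpArgs false
set_option linter.unusedVariables false

open Matrix Subgroup

namespace Cfsg.Agent.H334.Symp

open Cfsg.Agent.H339 Cfsg.Agent.H339.SpCo

variable {F : Type*} [Field F]

theorem mul_entry (g g' : Sp F) (i j : Fin 2 ⊕ Fin 2) : (g * g').1 i j =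
    g.1 i (Sum.inl 0) * g'.1 (Sum.inl 0) j + g.1 i (Sum.inl 1) * g'.1 (Sum.inl 1) j +
      (g.1 i (Sum.inr 0) * g'.1 (Sum.inr 0) j + g.1 i (Sum.inr 1) * g'.1 (Sum.inr 1) j) := by
  have e : (g * g').1 = g.1 * g'.1 := rfl
  rw [e, Matrix.mul_apply, Fintype.sum_sum_type, Fin.sum_univ_two, Fin.sum_univ_two]

theorem rho00 (g : S1 F) : (rho F g).1 0 0 = g.1.1 (Sum.inl 1) (Sum.inl 1) := rfl
theorem rho01 (g : S1 F) : (rho F g).1 0 1 = g.1.1 (Sum.inl 1) (Sum.inr 1) := rfl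
theorem rho10 (g : S1 F) : (rho F g).1 1 0 = g.1.1 (Sum.inr 1) (Sum.inl 1) := rfl
theorem rho11 (g : S1 F) : (rho F g).1 1 1 = g.1.1 (Sum.inr 1) (Sum.inr 1) := rfl

/-- coordinates on `S1` -/
def toEl (F : Type*) [Field F] : S1 F →* El F where
  toFun g := ⟨g.1.1 (Sum.inl 0) (Sum.inr 0), g.1.1 (Sum.inl 1) (Sum.inr 0), g.1.1 (Sum.inr 1) (Sum.inr 0), rho F g⟩
  map_one' := by
    ext1
    · rfl
    · rfl
    · rfl
    · exact map_one _
  map_mul' g g' := by
    obtain ⟨e1, e2, e3⟩ := entries g.2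
    obtain ⟨c1, c2, c3, c4⟩ := col_e1 g.2
    have r3 := row_f1 g'.2 (Sum.inr 0)
    simp at r3
    ext1
    · show (g * g').1.1 (Sum.inl 0) (Sum.inr 0) = _
      rw [El.mul_z]
      simp only [rho00, rho01, rho10, rho11]
      show ((g : Sp F) * (g' : Sp F)).1 (Sum.inl 0) (Sum.inr 0) = _
      rw [mul_entry, c1, e2, e3, r3]
      ring
    · show ((g : Sp F) * (g' : Sp F)).1 (Sum.inl 1) (Sum.inr 0) = _
      rw [El.mul_x]
      simp only [rho00, rho01, rho10, rho11]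
      rw [mul_entry, c2, r3]
      ring
    · show ((g : Sp F) * (g' : Sp F)).1 (Sum.inr 1) (Sum.inr 0) = _
      rw [El.mul_y]
      simp only [rho00, rho01, rho10, rho11]
      rw [mul_entry, c4, r3]
      ring
    · exact map_mul _ _ _

theorem toEl_z (g : S1 F) : (toEl F g).z = g.1.1 (Sum.inl 0) (Sum.inr 0) := rfl
theorem toEl_x (g : S1 F) : (toEl F g).x = g.1.1 (Sum.inl 1) (Sum.inr 0) := rfl
theorem toEl_y (g : S1 F) : (toEl F g).y = g.1.1 (Sum.inr 1) (Sum.inr 0) := rfl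
theorem toEl_A (g : S1 F) : (toEl F g).A = rho F g := rfl

theorem toEl_injective : Function.Injective (toEl F) := by
  rw [injective_iff_map_eq_one]
  intro g hg
  have hz := congrArg El.z hg
  have hx := congrArg El.x hg
  have hy := congrArg El.y hg
  have hA := congrArg El.A hg
  rw [toEl_z, El.one_z] at hz
  rw [toEl_x, El.one_x] at hx
  rw [toEl_y, El.one_y] at hy
  rw [toEl_A, El.one_A] at hA
  have h00 : g.1.1 (Sum.inl 1) (Sum.inl 1) = 1 := by rw [← rho00, hA]; rfl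
  have h01 : g.1.1 (Sum.inl 1) (Sum.inr 1) = 0 := by rw [← rho01, hA]; rfl
  have h10 : g.1.1 (Sum.inr 1) (Sum.inl 1) = 0 := by rw [← rho10, hA]; rfl
  obtain ⟨t, u, v, s, r, e, hr⟩ := exists_of_entry g.2 h10
  have hr1 : r = 1 := by
    apply Units.ext
    rw [hr, h00]; rfl
  subst hr1
  have hv := e_val t u v s (1 : Fˣ)
  rw [← e] at hv
  have k1 := congrFun (congrFun hv (Sum.inl 0)) (Sum.inr 0)
  have k2 := congrFun (congrFun hv (Sum.inl 1)) (Sum.inr 0)
  have k3 := congrFun (congrFun hv (Sum.inr 1)) (Sum.inr 0)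
  have k4 := congrFun (congrFun hv (Sum.inl 1)) (Sum.inr 1)
  rw [hz, fromBlocks_apply₁₂] at k1
  rw [hx, fromBlocks_apply₁₂] at k2
  rw [hy, fromBlocks_apply₂₂] at k3
  rw [h01, fromBlocks_apply₁₂] at k4
  simp at k1 k2 k3 k4
  subst k3
  have ht : t = 0 := k4.symm
  subst ht
  have hu : u = 0 := by linear_combination -k2
  subst hu
  have hv0 : v = 0 := by linear_combination -k1
  subst hv0
  apply Subtype.ext
  rw [e]
  have h1 : m 0 0 0 = (1 : Sp F) := by
    have := congrArg Subtype.val (co F).m_zero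
    rw [co_m] at this
    exact this
  have h2 : a 0 = (1 : Sp F) := congrArg Subtype.val (co F).a_zero
  have h3 : h (1 : Fˣ) = (1 : Sp F) := congrArg Subtype.val (co F).h_one
  rw [h1, h2, h3, mul_one, mul_one]
  rfl

theorem toEl_surjective : Function.Surjective (toEl F) := by
  intro g
  have h1 : toEl F ⟨H339.SpCo.emb g.A, H339.SpCo.emb_mem g.A⟩ = El.emb F g.A := by
    ext1
    · rfl
    · rfl
    · rfl
    · exact rho_emb g.A
  have h3 : h (1 : Fˣ) = (1 : Sp F) := congrArg Subtype.val (co F).h_one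
  obtain ⟨k, hk⟩ : ∃ k : S1 F, toEl F k = El.q g.z g.x g.y := by
    refine ⟨⟨m 0 g.x (g.z - g.x * g.y) * a (-g.y) * h 1,
      (S1 F).mul_mem ((S1 F).mul_mem (m_mem _ _ _) (a_mem _)) (h_mem _)⟩, ?_⟩
    have hv := e_val 0 g.x (g.z - g.x * g.y) (-g.y) (1 : Fˣ)
    ext1
    · rw [toEl_z]
      show (m 0 g.x (g.z - g.x * g.y) * a (-g.y) * h 1).1 _ _ = _
      rw [hv, fromBlocks_apply₁₂]
      simp
    · rw [toEl_x]
      show (m 0 g.x (g.z - g.x * g.y) * a (-g.y) * h 1).1 _ _ = _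
      rw [hv, fromBlocks_apply₁₂]
      simp
    · rw [toEl_y]
      show (m 0 g.x (g.z - g.x * g.y) * a (-g.y) * h 1).1 _ _ = _
      rw [hv, fromBlocks_apply₂₂]
      simp
    · rw [toEl_A]
      apply El.sl_ext
      · rw [rho00]
        show (m 0 g.x (g.z - g.x * g.y) * a (-g.y) * h 1).1 _ _ = _
        rw [hv, fromBlocks_apply₁₁]
        simp [El.sl_one00]
      · rw [rho01]
        show (m 0 g.x (g.z - g.x * g.y) * a (-g.y) * h 1).1 _ _ = _
        rw [hv, fromBlocks_apply₁₂]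
        simp [El.sl_one01]
      · rw [rho10]
        show (m 0 g.x (g.z - g.x * g.y) * a (-g.y) * h 1).1 _ _ = _
        rw [hv, fromBlocks_apply₂₁]
        simp [El.sl_one10]
      · rw [rho11]
        show (m 0 g.x (g.z - g.x * g.y) * a (-g.y) * h 1).1 _ _ = _
        rw [hv, fromBlocks_apply₂₂]
        simp [El.sl_one11]
  refine ⟨k * ⟨H339.SpCo.emb g.A, H339.SpCo.emb_mem g.A⟩, ?_⟩
  rw [map_mul, hk, h1]
  ext1
  · simp
  · simp
  · simp
  · simp

/-- **The centralizer of a `p`-central element of order `p` of `PSp(4,q)`.** -/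
theorem nonempty_iso_El [Finite F] {p n : ℕ} [Fact p.Prime] (hp2 : p ≠ 2) (hn : 1 ≤ n)
    (hF : Nat.card F = p ^ n) (hpF : (p : F) = 0) (h2 : (2 : F) ≠ 0) (x : Cfsg.PSp 2 F)
    (hx : orderOf x = p) (Px : Sylow p (Cfsg.PSp 2 F)) (hxP : x ∈ (Px : Subgroup (Cfsg.PSp 2 F)))
    (hxc : ∀ y ∈ (Px : Subgroup (Cfsg.PSp 2 F)), y * x = x * y) :
    Nonempty (El F ≃* Subgroup.centralizer ({x} : Set (Cfsg.PSp 2 F))) := by
  obtain ⟨e⟩ := nonempty_iso hp2 hn hF hpF h2 x hx Px hxP hxc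
  exact ⟨(MulEquiv.ofBijective (toEl F) ⟨toEl_injective, toEl_surjective⟩).symm.trans e⟩

end Cfsg.Agent.H334.Symp
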