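import Mathlib
import Cfsg.Agent.H334.Symp.Fus
import Cfsg.Agent.Cit.Parab
import Cfsg.Agent.S0205

/-!
# `N_G(M) ≤ N_G(P)` implies `Z ⊴ G`

In the abstract `PSp(4, 3^m)` set-up with `N_G(M) ≤ N_G(P)` the involution `t` is isolated, so that Glauberman's
`Z*`-theorem and the theorem of Feit and Thompson give `O₃(G) ≠ 1` and `Z ⊴ G`.
-/

set_option autoImplicit false

universe u

namespace Cfsg.Agent.H334.Symp

open Subgroup Cfsg

open scoped commutatorElement

variable {G : Type u} [Group G]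

/-- a nontrivial solvable normal subgroup contains a nontrivial abelian normal subgroup -/
theorem exists_abelian_normal {G : Type*} [Group G] (N : Subgroup G) [N.Normal] [Group.IsSolvable N] (hN : N ≠ ⊥) :
    ∃ A : Subgroup G, A.Normal ∧ A ≠ ⊥ ∧ ∀ x ∈ A, ∀ y ∈ A, x * y = y * x := by
  classical
  have hex : ∃ n, derivedSeries N n = ⊥ := Group.IsSolvable.solvable
  obtain ⟨n, hn, hmin⟩ : ∃ n, derivedSeries N n = ⊥ ∧ ∀ m < n, derivedSeries N m ≠ ⊥ :=
    ⟨Nat.find hex, Nat.find_spec hex, fun m hm => Nat.find_min hex hm⟩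
  cases n with
  | zero =>
    exfalso
    apply hN
    rw [derivedSeries_zero] at hn
    rw [Subgroup.eq_bot_iff_forall]
    intro x hx
    have h1 : (⟨x, hx⟩ : N) ∈ (⊤ : Subgroup N) := mem_top _
    rw [hn, mem_bot] at h1
    exact congrArg Subtype.val h1
  | succ k =>
    have h1 := hmin k (Nat.lt_succ_self k)
    refine ⟨(derivedSeries N k).map N.subtype, inferInstance, ?_, ?_⟩
    · intro h2
      apply h1
      rwa [Subgroup.map_eq_bot_iff_of_injective _ N.subtype_injective] at h2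
    · rw [derivedSeries_succ, Subgroup.commutator_eq_bot_iff_le_centralizer] at hn
      rintro _ ⟨x, hx, rfl⟩ _ ⟨y, hy, rfl⟩
      have h2 := (mem_centralizer_iff.1 (hn hx)) y hy
      rw [← map_mul, ← h2, map_mul]

namespace Setup

variable {C Z Q P M D : Subgroup G} {t : G}

/-- conjugates of `t` in `N_G(Z)` are in `C` -/
theorem conj_t_mem_C [Finite G] (S : Setup C Z Q P M D t) (hSC : SCThm.{u} 3)
    (hN : normalizer (M : Set G) ≤ normalizer (P : Set G)) {g : G}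
    (hg : g * t * g⁻¹ ∈ normalizer (Z : Set G)) : g * t * g⁻¹ ∈ C := by
  obtain ⟨s, hs⟩ : ∃ s, s = g * t * g⁻¹ := ⟨_, rfl⟩
  rw [← hs] at hg ⊢
  have hs2 : s * s = 1 := by
    have h1 : t * t = 1 := by
      have := pow_orderOf_eq_one t
      rwa [S.t2, pow_two] at this
    rw [hs]
    calc g * t * g⁻¹ * (g * t * g⁻¹) = g * (t * t) * g⁻¹ := by group
      _ = 1 := by rw [h1]; group
  have hsinv : s⁻¹ = s := by
    rw [inv_eq_iff_mul_eq_one]
    exact hs2
  have hsC := S.mem_H_iff.1 hg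
  -- `s` normalises `Q`
  have hsQ : ∀ v ∈ Q, s * v * s⁻¹ ∈ Q := by
    have h1 : Q.map (MulAut.conj s).toMonoidHom ≤ Q := by
      refine S.Qmax _ ?_ ?_ (S.Qp.map _)
      · rintro _ ⟨v, hv, rfl⟩
        exact (hsC v).1 (S.QC hv)
      · rintro c hc _ ⟨v, hv, rfl⟩
        have h2 : s⁻¹ * c * s ∈ C := by
          rw [hsC]
          have : s * (s⁻¹ * c * s) * s⁻¹ = c := by group
          rwa [this]
        refine ⟨_, S.Qn _ h2 v hv, ?_⟩
        show s * (s⁻¹ * c * s * v * (s⁻¹ * c * s)⁻¹) * s⁻¹ = c * (s * v * s⁻¹) * c⁻¹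
        group
    intro v hv
    exact h1 (conj_mem_map hv)
  -- a fixed point of `s` on `Q`
  obtain ⟨v, hv, hv1, hvs⟩ : ∃ v ∈ Q, v ≠ 1 ∧ s * v * s⁻¹ = v := by
    by_contra hcon
    let φ : Q →* Q :=
      { toFun := fun v => ⟨s * v * s⁻¹, hsQ v v.2⟩
        map_one' := Subtype.ext (by simp)
        map_mul' := fun a b => Subtype.ext (by simp) }
    have hφ : MonoidHom.FixedPointFree φ := by
      intro v hv
      by_contra hne
      exact hcon ⟨v, v.2, fun h => hne (Subtype.ext h), congrArg Subtype.val hv⟩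
    have hinv : Function.Involutive φ := by
      intro v
      apply Subtype.ext
      show s * (s * v * s⁻¹) * s⁻¹ = v
      calc s * (s * v * s⁻¹) * s⁻¹ = (s * s) * v * (s * s)⁻¹ := by group
        _ = v := by rw [hs2]; group
    obtain ⟨v, hvQ, -, hvZ⟩ := S.QM
    obtain ⟨w, hwQ, hw1, -⟩ := S.Qcomm v hvQ hvZ
    apply hw1
    have h1 := hφ.commute_all_of_involutive hinv ⟨v, hvQ⟩ ⟨w, hwQ⟩
    have h2 : v * w = w * v := congrArg Subtype.val h1
    rw [h2]; group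
  have hvC := S.QC hv
  have hv3 := S.Q3 v hv
  -- `g⁻¹ v g` commutes with `t`
  have hcomm : (g⁻¹ * v * g) * t = t * (g⁻¹ * v * g) := by
    have h1 : v * s = s * v := by
      calc v * s = (s * v * s⁻¹) * s := by rw [hvs]
        _ = s * v := by group
    calc (g⁻¹ * v * g) * t = g⁻¹ * (v * (g * t * g⁻¹)) * g := by group
      _ = g⁻¹ * ((g * t * g⁻¹) * v) * g := by rw [← hs, h1]
      _ = t * (g⁻¹ * v * g) := by group
  have h3 : (g⁻¹ * v * g) ^ 3 = 1 := by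
    have : g⁻¹ * v * g = g⁻¹ * v * g⁻¹⁻¹ := by group
    rw [this, conj_pow, hv3]; simp
  have hvC' : g⁻¹ * v * g ∈ C := S.mem_C_of_mem_H h3 (S.centralizer_t_le_H hSC hN hcomm)
  -- `g Z g⁻¹ ≤ C`
  obtain ⟨z, hz, hz1⟩ := S.exists_mem_ne
  have h4 : (g * z * g⁻¹) * v = v * (g * z * g⁻¹) := by
    have h5 := S.zcomm hz hvC'
    calc (g * z * g⁻¹) * v = g * (z * (g⁻¹ * v * g)) * g⁻¹ := by group
      _ = g * ((g⁻¹ * v * g) * z) * g⁻¹ := by rw [h5]
      _ = v * (g * z * g⁻¹) := by group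
  have h5 := S.centralizer_le_H hSC hN hvC hv3 hv1 h4
  have h6 : (g * z * g⁻¹) ^ 3 = 1 := by rw [conj_pow, S.Z3 z hz]; simp
  have h7 := S.mem_C_of_mem_H h6 h5
  have h8 := S.mem_H_of_conj hN hz hz1 h7
  rw [S.mem_H_iff] at h8
  rw [hs]
  exact (h8 t).1 S.tC

/-- **`Z` and `C` are normal in `G`** -/
theorem main [Finite G] (S : Setup C Z Q P M D t) (hSC : SCThm.{u} 3)
    (hN : normalizer (M : Set G) ≤ normalizer (P : Set G)) (g : G) : g ∈ normalizer (Z : Set G) := by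
  have h3p : Fact (Nat.Prime 3) := ⟨Nat.prime_three⟩
  -- `t` is isolated
  obtain ⟨N, hNn, hNodd, hNt⟩ := Cfsg.Agent.Cit.Parab.zstar S.t2 (by
    intro g hg
    have h1 := S.centralizer_t_le_H hSC hN hg
    have h2 := S.conj_t_mem_C hSC hN h1
    refine S.invol _ h2 _ S.tC ?_ S.t2 hg
    rw [← S.t2]
    have := orderOf_injective (MulAut.conj g).toMonoidHom (MulAut.conj g).injective t
    simpa using this)
  have hsol : Group.IsSolvable N := Cfsg.Agent.S0205.result hNodd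
  have hNne : N ≠ ⊥ := by
    rintro rfl
    obtain ⟨v, hvQ, -, hvZ⟩ := S.QM
    apply S.tinv v hvQ hvZ
    have h1 := hNt v
    rw [mem_bot] at h1
    rw [h1]
    exact Z.one_mem
  obtain ⟨A, hAn, hAne, hAab⟩ := exists_abelian_normal N hNne
  -- `3` divides the order of `A`
  have h3A : 3 ∣ Nat.card A := by
    by_contra hnd
    exact hAne (S.eq_bot_of_coprime ((Nat.Prime.coprime_iff_not_dvd Nat.prime_three).2 hnd)
      fun c _ k hk => hAn.conj_mem k hk c)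
  let V : Subgroup G :=
    { carrier := {x | x ∈ A ∧ x ^ 3 = 1}
      one_mem' := ⟨A.one_mem, one_pow 3⟩
      mul_mem' := fun {a b} ha hb => ⟨A.mul_mem ha.1 hb.1, by
        rw [(show Commute a b from hAab a ha.1 b hb.1).mul_pow, ha.2, hb.2, one_mul]⟩
      inv_mem' := fun {a} ha => ⟨A.inv_mem ha.1, by rw [inv_pow, ha.2, inv_one]⟩ }
  have hV3 : ∀ x ∈ V, x ^ 3 = 1 := fun x hx => hx.2
  have hVn : V.Normal := ⟨fun x hx g => ⟨hAn.conj_mem x hx.1 g, by rw [conj_pow, hx.2]; simp⟩⟩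
  have hVp : IsPGroup 3 V := isPGroup_of_pow hV3
  have hVC : V ≤ C :=
    le_sup_right.trans (S.le_C_of_Z_le hN (IsPGroup.to_sup_of_normal_right S.Zp hVp) le_sup_left)
  have hVQ : V ≤ Q := S.Qmax V hVC (fun c _ x hx => hVn.conj_mem x hx c) hVp
  obtain ⟨x, hx⟩ := exists_prime_orderOf_dvd_card' 3 h3A
  have hxV : (x : G) ∈ V := ⟨x.2, by rw [← hx, ← Subgroup.orderOf_coe, pow_orderOf_eq_one]⟩
  have hx1 : (x : G) ≠ 1 := by
    intro h
    have h2 : x = 1 := Subtype.ext h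
    rw [h2, orderOf_one] at hx
    norm_num at hx
  obtain ⟨z, hzV, hzZ, hz1⟩ : ∃ z ∈ V, z ∈ Z ∧ z ≠ 1 := by
    by_cases hxZ : (x : G) ∈ Z
    · exact ⟨x, hxV, hxZ, hx1⟩
    · obtain ⟨w, -, hw1, hwZ⟩ := S.Qcomm x (hVQ hxV) hxZ
      refine ⟨_, ?_, hwZ, hw1⟩
      have h1 : (x : G) * w * (x : G)⁻¹ * w⁻¹ = (x : G) * (w * (x : G)⁻¹ * w⁻¹) := by group
      rw [h1]
      exact V.mul_mem hxV (hVn.conj_mem _ (V.inv_mem hxV) w)
  exact S.mem_H_of_conj hN hzZ hz1 (hVC (hVn.conj_mem z hzV g))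

/-- `C` is normal and `G = C N_G(M)` -/
theorem conclusion [Finite G] (S : Setup C Z Q P M D t) (hSC : SCThm.{u} 3)
    (hN : normalizer (M : Set G) ≤ normalizer (P : Set G)) :
    (∀ g c, c ∈ C → g * c * g⁻¹ ∈ C) ∧ ∀ g : G, ∃ c ∈ C, ∃ k ∈ normalizer (M : Set G), g = c * k := by
  have h1 : ∀ g c : G, c ∈ C → g * c * g⁻¹ ∈ C := fun g c hc => (S.mem_H_iff.1 (S.main hSC hN g) c).1 hc
  refine ⟨h1, fun g => ?_⟩
  have h2 : M.map (MulAut.conj g).toMonoidHom ≤ C := by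
    rintro _ ⟨x, hx, rfl⟩
    exact h1 g x (S.MC hx)
  obtain ⟨c, hc, h3⟩ := S.conjPC h2 (S.Mp.map _)
  refine ⟨c⁻¹, C.inv_mem hc, c * g, S.norm_M fun x hx => ?_, by group⟩
  have h4 : c * g * x * (c * g)⁻¹ = c * (g * x * g⁻¹) * c⁻¹ := by group
  rw [h4]
  exact h3 _ (conj_mem_map hx)

end Setup

end Cfsg.Agent.H334.Symp
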