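import Mathlib
import Cfsg.Agent.H334.Symp.Iso
import Cfsg.Agent.H334.Symp.Main

/-!
# S3302 from S5325 for the prime 3
-/

set_option autoImplicit false

universe u v

open Subgroup

open scoped Pointwise

namespace Cfsg.Agent.H334.Symp

/-- the coordinates of the centralizer -/
theorem exists_setup {G : Type u} [Group G] [Finite G] {F : Type v} [Field F] [Fintype F] (m : ℕ)
    (hm1 : 1 < m) (hF : Fintype.card F = 3 ^ m) (U : Sylow 3 (Cfsg.PSp 2 F)) (x : Cfsg.PSp 2 F)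
    (hx : orderOf x = 3) (hxU : x ∈ (U : Subgroup (Cfsg.PSp 2 F)))
    (hxc : ∀ u ∈ (U : Subgroup (Cfsg.PSp 2 F)), u * x = x * u) (α : G)
    (e : ↥(Subgroup.centralizer ({α} : Set G)) ≃* ↥(Subgroup.centralizer ({x} : Set (Cfsg.PSp 2 F))))
    (hb : ∀ z : G, z ≠ 1 → z ∈ Subgroup.centralizer ({α} : Set G) →
      (∀ c ∈ Subgroup.centralizer ({α} : Set G), c * z = z * c) →
      Subgroup.centralizer ({z} : Set G) = Subgroup.centralizer ({α} : Set G)) :
    ∃ f : El F →* G, Function.Injective f ∧ f.range = Subgroup.centralizer ({α} : Set G) ∧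
      Setup f.range ((El.Zs F).map f) ((El.Qs F).map f) ((El.Ps F).map f) ((El.Ms F).map f) ((El.Ds F).map f)
        (f (El.ts F)) := by
  have h3p : Fact (Nat.Prime 3) := ⟨Nat.prime_three⟩
  have hFn : Nat.card F = 3 ^ m := by rw [Nat.card_eq_fintype_card]; exact hF
  have h3 : (3 : F) = 0 := by
    have h1 : ((Fintype.card F : ℕ) : F) = 0 := Nat.cast_card_eq_zero F
    rw [hF] at h1
    have h2 : (3 : F) ^ m = 0 := by exact_mod_cast h1
    exact pow_eq_zero_iff (by omega) |>.1 h2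
  have h2F : (2 : F) ≠ 0 := by
    intro h
    have : (1 : F) = 0 := by linear_combination h3 - h
    exact one_ne_zero this
  obtain ⟨i⟩ := nonempty_iso_El (by norm_num) (by omega) hFn (by exact_mod_cast h3) h2F x hx U hxU hxc
  let j : El F ≃* ↥(Subgroup.centralizer ({α} : Set G)) := i.trans e.symm
  let f : El F →* G := (Subgroup.centralizer ({α} : Set G)).subtype.comp j.toMonoidHom
  have hf : Function.Injective f := by
    intro a b h
    exact j.injective (Subtype.ext h)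
  have hr : f.range = Subgroup.centralizer ({α} : Set G) := by
    ext g
    constructor
    · rintro ⟨a, rfl⟩
      exact (j a).2
    · intro hg
      exact ⟨j.symm ⟨g, hg⟩, by show ((j (j.symm ⟨g, hg⟩) : ↥(Subgroup.centralizer ({α} : Set G))) : G) = g; simp⟩
  refine ⟨f, hf, hr, (El.setup hFn hm1 h2F h3).map f hf fun z hz hz1 g hg => ?_⟩
  rw [hr, ← hb (f z) (fun h => hz1 (hf (by rw [h, map_one]))) (by rw [← hr]; exact ⟨z, rfl⟩) ?_]
  · rw [mem_centralizer_singleton_iff]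
    exact hg
  · rw [← hr]
    rintro _ ⟨c, rfl⟩
    rw [← map_mul, El.comm_of_Zs hz, map_mul]

theorem final {G : Type u} [Group G] [Finite G] (hSC : SCThm.{u} 3) {F : Type v} [Field F] [Fintype F] (m : ℕ)
    (hm1 : 1 < m) (hF : Fintype.card F = 3 ^ m) (U : Sylow 3 (Cfsg.PSp 2 F)) (x : Cfsg.PSp 2 F)
    (hx : orderOf x = 3) (hxU : x ∈ (U : Subgroup (Cfsg.PSp 2 F)))
    (hxc : ∀ u ∈ (U : Subgroup (Cfsg.PSp 2 F)), u * x = x * u) (α : G)
    (e : ↥(Subgroup.centralizer ({α} : Set G)) ≃* ↥(Subgroup.centralizer ({x} : Set (Cfsg.PSp 2 F))))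
    (hb : ∀ z : G, z ≠ 1 → z ∈ Subgroup.centralizer ({α} : Set G) →
      (∀ c ∈ Subgroup.centralizer ({α} : Set G), c * z = z * c) →
      Subgroup.centralizer ({z} : Set G) = Subgroup.centralizer ({α} : Set G))
    (P : Sylow 3 G) (M : Subgroup G) (hMP : M ≤ (P : Subgroup G)) (hMel : Cfsg.IsElementaryAbelian 3 M)
    (hMcard : Nat.card M = 3 ^ (3 * m))
    (hB : Subgroup.normalizer (M : Set G) ≤ Subgroup.normalizer ((P : Subgroup G) : Set G)) :
    (∀ g : G, ∃ c k : G, c ∈ Subgroup.centralizer {z : G | z ∈ Subgroup.centralizer ({α} : Set G) ∧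
        ∀ c' ∈ Subgroup.centralizer ({α} : Set G), c' * z = z * c'} ∧
      k ∈ Subgroup.normalizer (M : Set G) ∧ g = c * k) ∧ (Subgroup.centralizer ({α} : Set G)).Normal := by
  have h3p : Fact (Nat.Prime 3) := ⟨Nat.prime_three⟩
  obtain ⟨f, hf, hr, S⟩ := exists_setup m hm1 hF U x hx hxU hxc α e hb
  obtain ⟨T, hT⟩ := S.exists_sylow
  obtain ⟨g, hg⟩ := MulAction.exists_smul_eq G P T
  -- `g P g⁻¹ = P₀`
  have hPT : ∀ y : G, y ∈ (P : Subgroup G) ↔ g * y * g⁻¹ ∈ (El.Ps F).map f := by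
    intro y
    rw [← hT, ← hg]
    constructor
    · intro h
      exact Subgroup.smul_mem_pointwise_smul _ (MulAut.conj g) (P : Subgroup G) h
    · intro h
      have h1 : g * y * g⁻¹ ∈ MulAut.conj g • (P : Subgroup G) := h
      rw [Subgroup.mem_pointwise_smul_iff_inv_smul_mem] at h1
      have h2 : (MulAut.conj g)⁻¹ • (g * y * g⁻¹) = y := by
        rw [← map_inv, MulAut.smul_def, MulAut.conj_apply]
        group
      rwa [h2] at h1
  have hMg : M.map (MulAut.conj g).toMonoidHom = (El.Ms F).map f := by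
    refine S.Muniq _ ?_ ?_ ?_ ?_
    · rintro _ ⟨y, hy, rfl⟩
      exact (hPT y).1 (hMP hy)
    · rintro _ ⟨y, hy, rfl⟩ _ ⟨z, hz, rfl⟩
      have h1 : y * z = z * y := congrArg Subtype.val (hMel.1.is_comm.comm (⟨y, hy⟩ : M) ⟨z, hz⟩)
      rw [← map_mul, h1, map_mul]
    · rintro _ ⟨y, hy, rfl⟩
      rw [← map_pow, hMel.2 y hy, map_one]
    · rw [card_map_conj, hMcard, Nat.card_congr ((El.Ms F).equivMapOfInjective f hf).symm.toEquiv, El.card_Ms,
        Nat.card_eq_fintype_card, hF, ← pow_mul]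
      ring_nf
  have hM : ∀ y : G, y ∈ M ↔ g * y * g⁻¹ ∈ (El.Ms F).map f := by
    intro y
    rw [← hMg, mem_map_conj]
    have : g⁻¹ * (g * y * g⁻¹) * g = y := by group
    rw [this]
  -- normalizers
  have hNM : ∀ k : G, k ∈ normalizer (((El.Ms F).map f : Subgroup G) : Set G) ↔
      g⁻¹ * k * g ∈ normalizer (M : Set G) := by
    intro k
    rw [mem_normalizer_iff, mem_normalizer_iff]
    constructor
    · intro h y
      rw [hM y, h, hM]
      have : k * (g * y * g⁻¹) * k⁻¹ = g * (g⁻¹ * k * g * y * (g⁻¹ * k * g)⁻¹) * g⁻¹ := by group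
      rw [this]
    · intro h y
      have h1 := h (g⁻¹ * y * g)
      rw [hM, hM] at h1
      have e1 : g * (g⁻¹ * y * g) * g⁻¹ = y := by group
      have e2 : g * (g⁻¹ * k * g * (g⁻¹ * y * g) * (g⁻¹ * k * g)⁻¹) * g⁻¹ = k * y * k⁻¹ := by group
      rwa [e1, e2] at h1
  have hN : normalizer (((El.Ms F).map f : Subgroup G) : Set G) ≤
      normalizer (((El.Ps F).map f : Subgroup G) : Set G) := by
    intro k hk
    have h1 := hB ((hNM k).1 hk)
    rw [mem_normalizer_iff] at h1 ⊢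
    intro y
    have h2 := h1 (g⁻¹ * y * g)
    rw [hPT, hPT] at h2
    have e1 : g * (g⁻¹ * y * g) * g⁻¹ = y := by group
    have e2 : g * (g⁻¹ * k * g * (g⁻¹ * y * g) * (g⁻¹ * k * g)⁻¹) * g⁻¹ = k * y * k⁻¹ := by group
    rwa [e1, e2] at h2
  obtain ⟨hC, hF'⟩ := S.conclusion hSC hN
  rw [hr] at hC hF'
  refine ⟨fun y => ?_, ⟨fun c hc y => hC y c hc⟩⟩
  obtain ⟨c, hc, k, hk, hck⟩ := hF' (g * y * g⁻¹)
  refine ⟨g⁻¹ * c * g, g⁻¹ * k * g, ?_, (hNM k).1 hk, ?_⟩
  · have h1 : g⁻¹ * c * g ∈ Subgroup.centralizer ({α} : Set G) := by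
      have := hC g⁻¹ c hc
      rwa [inv_inv] at this
    rw [mem_centralizer_iff]
    rintro z ⟨-, hz⟩
    exact (hz _ h1).symm
  · calc y = g⁻¹ * (g * y * g⁻¹) * g := by group
      _ = g⁻¹ * (c * k) * g := by rw [hck]
      _ = g⁻¹ * c * g * (g⁻¹ * k * g) := by group

end Cfsg.Agent.H334.Symp
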